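import Mathlib
import Cfsg.Agent.Helper71.T4Defs
import Cfsg.Agent.Helper71.SODefs

/-!
# helper94: definitions for the maximality of the tensor stabiliser `Sp_4(q) ⊗ O_3(q)` in
`Sp_12(q)` (`q` odd, `q ≥ 5`) — CALL S43 (last missing component of S5867).

Model: `V = F^4 ⊗ F^3`, matrices indexed by `Fin 4 × Fin 3` (`pt a b`, `IsKron`, `InM` of
`Helper71.T4`; `bl S`, `ruw`, `Nuw` of `Helper71.SO` with `n = 3`).  The alternating form on `V`
has Gram matrix `Om4 S = J4 ⊗ S`, `J4` the standard alternating matrix with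
`J4 0 3 = 1 = J4 1 2`, `S` symmetric invertible `3 × 3`.  A matrix on `V` is a `4 × 4` matrix of
`3 × 3` blocks `bk g i j`; `EK i j C` is the matrix with the single block `C` at `(i, j)`.
-/

set_option autoImplicit false

namespace Cfsg.Agent.Helper94.S43

open Matrix Cfsg.Agent.Helper71.T4
open Cfsg.Agent.Helper71.SO (bl)
open scoped Kronecker

variable {F : Type*} [Field F]

/-- The standard alternating `4 × 4` matrix: `J4 0 3 = 1`, `J4 1 2 = 1`. -/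
def J4 (F : Type*) [Field F] : Matrix (Fin 4) (Fin 4) F :=
  !![0, 0, 0, 1; 0, 0, 1, 0; 0, -1, 0, 0; -1, 0, 0, 0]

/-- The Gram matrix `J4 ⊗ S` of the alternating form on `F^4 ⊗ F^3`. -/
def Om4 (S : Matrix (Fin 3) (Fin 3) F) : Matrix (Fin 4 × Fin 3) (Fin 4 × Fin 3) F := J4 F ⊗ₖ S

/-- `g` preserves the alternating form `Om4 S`. -/
def IsSp4 (S : Matrix (Fin 3) (Fin 3) F) (g : Matrix (Fin 4 × Fin 3) (Fin 4 × Fin 3) F) : Prop :=
  gᵀ * Om4 S * g = Om4 S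

/-- Every element of `M` preserves `Om4 S`. -/
def SpLE4 (S : Matrix (Fin 3) (Fin 3) F) (M : Subgroup (GL (Fin 4 × Fin 3) F)) : Prop :=
  ∀ g ∈ M, IsSp4 S (g : Matrix (Fin 4 × Fin 3) (Fin 4 × Fin 3) F)

/-- `M` contains every Kronecker product `A ⊗ B` of similarities with inverse multipliers. -/
def HasH4 (S : Matrix (Fin 3) (Fin 3) F) (M : Subgroup (GL (Fin 4 × Fin 3) F)) : Prop :=
  ∀ (A : Matrix (Fin 4) (Fin 4) F) (B : Matrix (Fin 3) (Fin 3) F) (ν μ : F),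
    Aᵀ * J4 F * A = ν • J4 F → Bᵀ * S * B = μ • S → ν * μ = 1 → InM M (A ⊗ₖ B)

/-- The matrix with the single `3 × 3` block `C` at position `(i, j)`. -/
def EK (i j : Fin 4) (C : Matrix (Fin 3) (Fin 3) F) : Matrix (Fin 4 × Fin 3) (Fin 4 × Fin 3) F :=
  (Matrix.single i j (1 : F)) ⊗ₖ C

/-- `X4 C = 1 + E_{03} ⊗ C` (an element of the centre of the unipotent radical of the
stabiliser of `e₀ ⊗ F^3`). -/
def X4 (C : Matrix (Fin 3) (Fin 3) F) : Matrix (Fin 4 × Fin 3) (Fin 4 × Fin 3) F := 1 + EK 0 3 C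

/-- Every `X4 C` in `M` has `C` scalar. -/
def NSX4 (M : Subgroup (GL (Fin 4 × Fin 3) F)) : Prop :=
  ∀ C : Matrix (Fin 3) (Fin 3) F, InM M (X4 C) → ∃ c : F, C = c • (1 : Matrix (Fin 3) (Fin 3) F)

/-- The unipotent block matrix `[[1, X₁, X₂, Z], [0, 1, 0, Y₁], [0, 0, 1, Y₂], [0, 0, 0, 1]]`. -/
def qmat (X₁ X₂ Z Y₁ Y₂ : Matrix (Fin 3) (Fin 3) F) :
    Matrix (Fin 4 × Fin 3) (Fin 4 × Fin 3) F :=
  1 + EK 0 1 X₁ + EK 0 2 X₂ + EK 0 3 Z + EK 1 3 Y₁ + EK 2 3 Y₂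

/-- The `(i, j)` block of `g`. -/
def bk (g : Matrix (Fin 4 × Fin 3) (Fin 4 × Fin 3) F) (i j : Fin 4) : Matrix (Fin 3) (Fin 3) F :=
  Matrix.of fun k l => g (i, k) (j, l)

/-- The shape `[[1, *, *, *], [0, *, *, *], [0, *, *, *], [0, 0, 0, 1]]`. -/
def PSh (ρ : Matrix (Fin 4 × Fin 3) (Fin 4 × Fin 3) F) : Prop :=
  bk ρ 0 0 = 1 ∧ bk ρ 3 3 = 1 ∧ bk ρ 1 0 = 0 ∧ bk ρ 2 0 = 0 ∧ bk ρ 3 0 = 0 ∧ bk ρ 3 1 = 0 ∧
    bk ρ 3 2 = 0

/-- `M` contains all symplectic transvections centred at pure tensors `a ⊗ u`, `u` singular. -/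
def TvP4 (S : Matrix (Fin 3) (Fin 3) F) (M : Subgroup (GL (Fin 4 × Fin 3) F)) : Prop :=
  ∀ (a : Fin 4 → F) (u : Fin 3 → F) (c : F), bl S u u = 0 →
    InM M (1 + c • vecMulVec (pt a u) (Om4 S *ᵥ pt a u))

/-- The symplectic transvection `x ↦ x + c (x ⬝ J4 u) u` of `F^4`. -/
def tv4 (u : Fin 4 → F) (c : F) : Matrix (Fin 4) (Fin 4) F := 1 + c • vecMulVec u (J4 F *ᵥ u)

/-- The element `1 ⊕ θ ⊕ 1` of `GL_4` (acting on the middle coordinates `1, 2`). -/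
def mid4 (θ : Matrix (Fin 2) (Fin 2) F) : Matrix (Fin 4) (Fin 4) F :=
  !![1, 0, 0, 0; 0, θ 0 0, θ 0 1, 0; 0, θ 1 0, θ 1 1, 0; 0, 0, 0, 1]

/-- The unipotent element `[[1, x₁, x₂, z], [0, 1, 0, x₂], [0, 0, 1, -x₁], [0, 0, 0, 1]]` of
`Sp_4` (for `J4`). -/
def uq4 (x₁ x₂ z : F) : Matrix (Fin 4) (Fin 4) F :=
  !![1, x₁, x₂, z; 0, 1, 0, x₂; 0, 0, 1, -x₁; 0, 0, 0, 1]

/-! ### Block calculus -/

theorem bk_apply (g : Matrix (Fin 4 × Fin 3) (Fin 4 × Fin 3) F) (i j : Fin 4) (k l : Fin 3) :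
    bk g i j k l = g (i, k) (j, l) := rfl

theorem bk_ext {g h : Matrix (Fin 4 × Fin 3) (Fin 4 × Fin 3) F}
    (H : ∀ i j, bk g i j = bk h i j) : g = h := by
  ext ⟨i, k⟩ ⟨j, l⟩
  exact congrFun (congrFun (H i j) k) l

theorem bk_add (g h : Matrix (Fin 4 × Fin 3) (Fin 4 × Fin 3) F) (i j : Fin 4) :
    bk (g + h) i j = bk g i j + bk h i j := rfl

theorem bk_sub (g h : Matrix (Fin 4 × Fin 3) (Fin 4 × Fin 3) F) (i j : Fin 4) :
    bk (g - h) i j = bk g i j - bk h i j := rfl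

theorem bk_neg (g : Matrix (Fin 4 × Fin 3) (Fin 4 × Fin 3) F) (i j : Fin 4) :
    bk (-g) i j = -bk g i j := rfl

theorem bk_smul (c : F) (g : Matrix (Fin 4 × Fin 3) (Fin 4 × Fin 3) F) (i j : Fin 4) :
    bk (c • g) i j = c • bk g i j := rfl

theorem bk_zero (i j : Fin 4) : bk (0 : Matrix (Fin 4 × Fin 3) (Fin 4 × Fin 3) F) i j = 0 := rfl

theorem bk_one (i j : Fin 4) :
    bk (1 : Matrix (Fin 4 × Fin 3) (Fin 4 × Fin 3) F) i j = if i = j then 1 else 0 := by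
  ext k l
  by_cases h : i = j
  · subst h
    by_cases hkl : k = l
    · subst hkl
      simp [bk_apply]
    · simp [bk_apply, Matrix.one_apply, hkl]
  · simp [bk_apply, Matrix.one_apply, h]

theorem bk_mul (g h : Matrix (Fin 4 × Fin 3) (Fin 4 × Fin 3) F) (i j : Fin 4) :
    bk (g * h) i j = ∑ a, bk g i a * bk h a j := by
  ext k l
  simp only [bk_apply, Matrix.mul_apply, Fintype.sum_prod_type, Matrix.sum_apply]

theorem bk_kron (A : Matrix (Fin 4) (Fin 4) F) (B : Matrix (Fin 3) (Fin 3) F) (i j : Fin 4) :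
    bk (A ⊗ₖ B) i j = A i j • B := by
  ext k l
  simp [bk_apply, Matrix.kroneckerMap_apply]

theorem bk_EK (a b : Fin 4) (C : Matrix (Fin 3) (Fin 3) F) (i j : Fin 4) :
    bk (EK a b C) i j = if i = a ∧ j = b then C else 0 := by
  unfold EK
  rw [bk_kron]
  by_cases h : i = a ∧ j = b
  · obtain ⟨rfl, rfl⟩ := h
    simp
  · rw [if_neg h, Matrix.single_apply_of_ne, zero_smul]
    intro h'
    exact h ⟨h'.1.symm, h'.2.symm⟩

theorem bk_transpose (g : Matrix (Fin 4 × Fin 3) (Fin 4 × Fin 3) F) (i j : Fin 4) :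
    bk gᵀ i j = (bk g j i)ᵀ := rfl

theorem EK_mul (i j k l : Fin 4) (A B : Matrix (Fin 3) (Fin 3) F) :
    EK i j A * EK k l B = if j = k then EK i l (A * B) else 0 := by
  unfold EK
  rw [← Matrix.mul_kronecker_mul]
  by_cases h : j = k
  · subst h
    rw [if_pos rfl, Matrix.single_mul_single_same, mul_one]
  · rw [if_neg h, Matrix.single_mul_single_of_ne _ _ _ _ h, Matrix.zero_kronecker]

theorem EK_add (i j : Fin 4) (A B : Matrix (Fin 3) (Fin 3) F) :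
    EK i j (A + B) = EK i j A + EK i j B := by
  unfold EK
  rw [Matrix.kronecker_add]

theorem EK_zero (i j : Fin 4) : EK i j (0 : Matrix (Fin 3) (Fin 3) F) = 0 := by
  unfold EK
  rw [Matrix.kronecker_zero]

theorem EK_neg (i j : Fin 4) (A : Matrix (Fin 3) (Fin 3) F) : EK i j (-A) = -EK i j A := by
  have h := EK_add i j A (-A)
  rw [add_neg_cancel, EK_zero] at h
  exact (neg_eq_of_add_eq_zero_right h.symm).symm

theorem EK_sub (i j : Fin 4) (A B : Matrix (Fin 3) (Fin 3) F) :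
    EK i j (A - B) = EK i j A - EK i j B := by
  rw [sub_eq_add_neg, EK_add, EK_neg, sub_eq_add_neg]

theorem EK_smul (i j : Fin 4) (c : F) (A : Matrix (Fin 3) (Fin 3) F) :
    EK i j (c • A) = c • EK i j A := by
  unfold EK
  rw [Matrix.kronecker_smul]

theorem X4_zero : X4 (0 : Matrix (Fin 3) (Fin 3) F) = 1 := by
  unfold X4
  rw [EK_zero, add_zero]

theorem X4_mul (C C' : Matrix (Fin 3) (Fin 3) F) : X4 C * X4 C' = X4 (C + C') := by
  unfold X4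
  rw [Matrix.add_mul, Matrix.mul_add, Matrix.mul_add, Matrix.one_mul, Matrix.mul_one, Matrix.one_mul,
    EK_mul, if_neg (by decide), add_zero, EK_add, add_assoc, add_comm (EK 0 3 C') (EK 0 3 C)]

theorem qmat_X4 (Z : Matrix (Fin 3) (Fin 3) F) : qmat 0 0 Z 0 0 = X4 Z := by
  unfold qmat X4
  simp only [EK_zero, add_zero]

end Cfsg.Agent.Helper94.S43
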