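import Cfsg.Agent.Helper94.Symp
import Cfsg.Agent.Helper13.SympGen

set_option autoImplicit false
set_option linter.unusedSectionVars false
set_option linter.unusedSimpArgs false
set_option linter.unusedVariables false

namespace Cfsg.Agent.Helper94

open Cfsg Cfsg.Geo Matrix

universe u

variable {F : Type u} [Field F] {m : ℕ}

/-! ### Basic calculus in `GL` -/

theorem gl_inv_mulVec {ι : Type} [Fintype ι] [DecidableEq ι] (g : GL ι F) (x : ι → F) :
    ((g⁻¹ : GL ι F) : Matrix ι ι F) *ᵥ ((g : Matrix ι ι F) *ᵥ x) = x := by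
  rw [mulVec_mulVec, ← Units.val_mul, inv_mul_cancel, Units.val_one, one_mulVec]

theorem gl_mulVec_inv {ι : Type} [Fintype ι] [DecidableEq ι] (g : GL ι F) (x : ι → F) :
    (g : Matrix ι ι F) *ᵥ (((g⁻¹ : GL ι F) : Matrix ι ι F) *ᵥ x) = x := by
  rw [mulVec_mulVec, ← Units.val_mul, mul_inv_cancel, Units.val_one, one_mulVec]

theorem gl_ext {ι : Type} [Fintype ι] [DecidableEq ι] (g h : GL ι F)
    (hgh : ∀ x : ι → F, (g : Matrix ι ι F) *ᵥ x = (h : Matrix ι ι F) *ᵥ x) : g = h :=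
  Units.ext (Helper13.mulVec_ext _ _ hgh)

theorem gl_mul_mulVec {ι : Type} [Fintype ι] [DecidableEq ι] (g h : GL ι F) (x : ι → F) :
    ((g * h : GL ι F) : Matrix ι ι F) *ᵥ x = (g : Matrix ι ι F) *ᵥ ((h : Matrix ι ι F) *ᵥ x) := by
  rw [Units.val_mul, mulVec_mulVec]

/-! ### Bilinearity of the standard alternating form -/

theorem sf_add_left (u u' v : Fin m ⊕ Fin m → F) :
    sympForm m F (u + u') v = sympForm m F u v + sympForm m F u' v := Helper13.sympForm_add_left u u' v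

theorem sf_add_right (u v v' : Fin m ⊕ Fin m → F) :
    sympForm m F u (v + v') = sympForm m F u v + sympForm m F u v' := Helper13.sympForm_add_right u v v'

theorem sf_smul_left (a : F) (u v : Fin m ⊕ Fin m → F) :
    sympForm m F (a • u) v = a * sympForm m F u v := Helper13.sympForm_smul_left a u v

theorem sf_smul_right (a : F) (u v : Fin m ⊕ Fin m → F) :
    sympForm m F u (a • v) = a * sympForm m F u v := Helper13.sympForm_smul_right a u v

theorem sf_sub_left (u u' v : Fin m ⊕ Fin m → F) :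
    sympForm m F (u - u') v = sympForm m F u v - sympForm m F u' v := Helper13.sympForm_sub_left u u' v

theorem sf_sub_right (u v v' : Fin m ⊕ Fin m → F) :
    sympForm m F u (v - v') = sympForm m F u v - sympForm m F u v' := Helper13.sympForm_sub_right u v v'

theorem sf_neg_left (u v : Fin m ⊕ Fin m → F) :
    sympForm m F (-u) v = - sympForm m F u v := Helper13.sympForm_neg_left u v

theorem sf_neg_right (u v : Fin m ⊕ Fin m → F) :
    sympForm m F u (-v) = - sympForm m F u v := Helper13.sympForm_neg_right u v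

theorem sf_zero_left (v : Fin m ⊕ Fin m → F) : sympForm m F 0 v = 0 := Helper13.sympForm_zero_left v

theorem sf_zero_right (v : Fin m ⊕ Fin m → F) : sympForm m F v 0 = 0 := Helper13.sympForm_zero_right v

theorem sf_self (v : Fin m ⊕ Fin m → F) : sympForm m F v v = 0 := Helper13.sympForm_self v

theorem sf_swap (u v : Fin m ⊕ Fin m → F) : sympForm m F u v = - sympForm m F v u :=
  Helper13.sympForm_swap u v

/-- Non-degeneracy: a non-zero vector has a partner. -/
theorem sf_exists_ne (u : Fin m ⊕ Fin m → F) (hu : u ≠ 0) : ∃ y, sympForm m F u y ≠ 0 := by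
  by_contra hcon
  push Not at hcon
  exact hu (Helper13.sympForm_sep u hcon)

/-! ### Elements of the symplectic group -/

theorem sp_apply {g : GL (Fin m ⊕ Fin m) F} (hg : g ∈ spGL m F) (x y : Fin m ⊕ Fin m → F) :
    sympForm m F ((g : Matrix (Fin m ⊕ Fin m) (Fin m ⊕ Fin m) F) *ᵥ x)
      ((g : Matrix (Fin m ⊕ Fin m) (Fin m ⊕ Fin m) F) *ᵥ y) = sympForm m F x y := hg x y

theorem sp_apply_left {g : GL (Fin m ⊕ Fin m) F} (hg : g ∈ spGL m F) (x y : Fin m ⊕ Fin m → F) :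
    sympForm m F ((g : Matrix (Fin m ⊕ Fin m) (Fin m ⊕ Fin m) F) *ᵥ x) y =
      sympForm m F x (((g⁻¹ : GL (Fin m ⊕ Fin m) F) : Matrix (Fin m ⊕ Fin m) (Fin m ⊕ Fin m) F) *ᵥ y) := by
  have := sp_apply hg x (((g⁻¹ : GL (Fin m ⊕ Fin m) F) : Matrix (Fin m ⊕ Fin m) (Fin m ⊕ Fin m) F) *ᵥ y)
  rw [gl_mulVec_inv] at this
  exact this

theorem stGL_coe (u : Fin m ⊕ Fin m → F) (c : F) :
    ((stGL u c : GL (Fin m ⊕ Fin m) F) : Matrix (Fin m ⊕ Fin m) (Fin m ⊕ Fin m) F) =
      Cfsg.sympTransvection m u c := by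
  apply Helper13.mulVec_ext
  intro x
  rw [stGL_mulVec, Helper13.sympTransvection_mulVec]

/-- Conjugating a transvection by an element of the symplectic group. -/
theorem stGL_conj {g : GL (Fin m ⊕ Fin m) F} (hg : g ∈ spGL m F) (u : Fin m ⊕ Fin m → F) (c : F) :
    g * stGL u c * g⁻¹ = stGL ((g : Matrix (Fin m ⊕ Fin m) (Fin m ⊕ Fin m) F) *ᵥ u) c := by
  apply gl_ext
  intro x
  rw [gl_mul_mulVec, gl_mul_mulVec, stGL_mulVec, stGL_mulVec, mulVec_add, mulVec_smul, gl_mulVec_inv]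
  congr 2
  have := sp_apply_left hg (((g⁻¹ : GL (Fin m ⊕ Fin m) F) : Matrix (Fin m ⊕ Fin m) (Fin m ⊕ Fin m) F) *ᵥ x)
    ((g : Matrix (Fin m ⊕ Fin m) (Fin m ⊕ Fin m) F) *ᵥ u)
  rw [gl_mulVec_inv, gl_inv_mulVec] at this
  rw [this]

/-- A subgroup of `GL` containing all symplectic transvections contains the symplectic group. -/
theorem spGL_le_of_tv (K : Subgroup (GL (Fin m ⊕ Fin m) F)) (h : ∀ (u : Fin m ⊕ Fin m → F) (c : F), stGL u c ∈ K) :
    spGL m F ≤ K := by
  intro g hg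
  have hA : (g : Matrix (Fin m ⊕ Fin m) (Fin m ⊕ Fin m) F) ∈ Matrix.symplecticGroup (Fin m) F :=
    (Helper13.mem_symplecticGroup_iff_sympForm _).mpr hg
  have key : ∀ A ∈ Subgroup.closure (Helper13.spTvSet m F),
      ∃ g' ∈ K, ((g' : GL (Fin m ⊕ Fin m) F) : Matrix (Fin m ⊕ Fin m) (Fin m ⊕ Fin m) F) =
        (A : Matrix (Fin m ⊕ Fin m) (Fin m ⊕ Fin m) F) := by
    intro A hA
    induction hA using Subgroup.closure_induction with
    | mem A hA =>
      obtain ⟨w, c, hwc⟩ := hA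
      exact ⟨stGL w c, h w c, by rw [stGL_coe, hwc]⟩
    | one => exact ⟨1, K.one_mem, rfl⟩
    | mul A B _ _ ihA ihB =>
      obtain ⟨a, haK, ha⟩ := ihA
      obtain ⟨b, hbK, hb⟩ := ihB
      exact ⟨a * b, K.mul_mem haK hbK, by rw [Units.val_mul, ha, hb]; rfl⟩
    | inv A _ ih =>
      obtain ⟨a, haK, ha⟩ := ih
      refine ⟨a⁻¹, K.inv_mem haK, ?_⟩
      have h1 : ((a⁻¹ : GL (Fin m ⊕ Fin m) F) : Matrix (Fin m ⊕ Fin m) (Fin m ⊕ Fin m) F) *
          (A : Matrix (Fin m ⊕ Fin m) (Fin m ⊕ Fin m) F) = 1 := by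
        rw [← ha, ← Units.val_mul, inv_mul_cancel, Units.val_one]
      have h2 : (A : Matrix (Fin m ⊕ Fin m) (Fin m ⊕ Fin m) F) *
          ((A⁻¹ : Matrix.symplecticGroup (Fin m) F) : Matrix (Fin m ⊕ Fin m) (Fin m ⊕ Fin m) F) = 1 := by
        rw [← Submonoid.coe_mul, mul_inv_cancel, Submonoid.coe_one]
      calc ((a⁻¹ : GL (Fin m ⊕ Fin m) F) : Matrix (Fin m ⊕ Fin m) (Fin m ⊕ Fin m) F)
          = ((a⁻¹ : GL (Fin m ⊕ Fin m) F) : Matrix (Fin m ⊕ Fin m) (Fin m ⊕ Fin m) F) *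
            ((A : Matrix (Fin m ⊕ Fin m) (Fin m ⊕ Fin m) F) *
            ((A⁻¹ : Matrix.symplecticGroup (Fin m) F) : Matrix (Fin m ⊕ Fin m) (Fin m ⊕ Fin m) F)) := by
              rw [h2, mul_one]
        _ = ((A⁻¹ : Matrix.symplecticGroup (Fin m) F) : Matrix (Fin m ⊕ Fin m) (Fin m ⊕ Fin m) F) := by
              rw [← mul_assoc, h1, one_mul]
  obtain ⟨g', hg'K, hg'⟩ := key ⟨_, hA⟩ (Helper13.sp_gen ⟨_, hA⟩)
  have : g' = g := Units.ext hg'
  rw [← this]
  exact hg'K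

/-! ### The centres of the transvections lying in a subgroup -/

/-- The vectors all of whose transvections lie in `K`. -/
def tvCentres (K : Subgroup (GL (Fin m ⊕ Fin m) F)) : Set (Fin m ⊕ Fin m → F) :=
  {u | ∀ c : F, stGL u c ∈ K}

theorem zero_mem_tvCentres (K : Subgroup (GL (Fin m ⊕ Fin m) F)) : (0 : Fin m ⊕ Fin m → F) ∈ tvCentres K := by
  intro c
  have : stGL (0 : Fin m ⊕ Fin m → F) c = 1 := by
    apply gl_ext
    intro x
    rw [stGL_mulVec, smul_zero, add_zero, Units.val_one, one_mulVec]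
  rw [this]
  exact K.one_mem

theorem tvCentres_smul (K : Subgroup (GL (Fin m ⊕ Fin m) F)) {u : Fin m ⊕ Fin m → F} (hu : u ∈ tvCentres K)
    (a : F) : a • u ∈ tvCentres K := by
  intro c
  have : stGL (a • u) c = stGL u (a * a * c) := by
    apply gl_ext
    intro x
    rw [stGL_mulVec, stGL_mulVec, sf_smul_right, smul_smul]
    congr 2
    ring
  rw [this]
  exact hu _

theorem tvCentres_map (K : Subgroup (GL (Fin m ⊕ Fin m) F)) {g : GL (Fin m ⊕ Fin m) F} (hgK : g ∈ K)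
    (hg : g ∈ spGL m F) {u : Fin m ⊕ Fin m → F} (hu : u ∈ tvCentres K) :
    (g : Matrix (Fin m ⊕ Fin m) (Fin m ⊕ Fin m) F) *ᵥ u ∈ tvCentres K := by
  intro c
  rw [← stGL_conj hg]
  exact K.mul_mem (K.mul_mem hgK (hu c)) (K.inv_mem hgK)

/-- If `u, v` are centres with `f(u,v) ≠ 0`, every vector of their span is a centre. -/
theorem tvCentres_line (K : Subgroup (GL (Fin m ⊕ Fin m) F)) {u v : Fin m ⊕ Fin m → F}
    (hu : u ∈ tvCentres K) (hv : v ∈ tvCentres K) (huv : sympForm m F u v ≠ 0) (a b : F) :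
    a • u + b • v ∈ tvCentres K := by
  have hvu : sympForm m F v u ≠ 0 := by
    rw [sf_swap]; exact neg_ne_zero.mpr huv
  by_cases hb : b = 0
  · rw [hb, zero_smul, add_zero]
    exact tvCentres_smul K hu a
  · -- `v + (a/b) u` is the image of `v` under a transvection centred at `u`
    have h1 : v + (b⁻¹ * a) • u ∈ tvCentres K := by
      have := tvCentres_map K (hu ((b⁻¹ * a) * (sympForm m F v u)⁻¹)) (stGL_mem u _) hv
      rw [stGL_mulVec] at this
      have e : (b⁻¹ * a) * (sympForm m F v u)⁻¹ * sympForm m F v u = b⁻¹ * a := by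
        field_simp
      rw [e] at this
      exact this
    have h2 := tvCentres_smul K h1 b
    have e : b • (v + (b⁻¹ * a) • u) = a • u + b • v := by
      rw [smul_add, smul_smul, ← mul_assoc, mul_inv_cancel₀ hb, one_mul, add_comm]
    rw [e] at h2
    exact h2

/-- If every vector is a centre, the subgroup contains the symplectic group. -/
theorem spGL_le_of_tvCentres (K : Subgroup (GL (Fin m ⊕ Fin m) F))
    (h : ∀ u : Fin m ⊕ Fin m → F, u ∈ tvCentres K) : spGL m F ≤ K :=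
  spGL_le_of_tv K (fun u c => h u c)

/-- Two functionals `f(·,x)`, `f(·,y)` not vanishing on a subspace are simultaneously non-zero somewhere. -/
theorem exists_both_ne (X : Submodule F (Fin m ⊕ Fin m → F)) (x y : Fin m ⊕ Fin m → F)
    (hx : ∃ u ∈ X, sympForm m F u x ≠ 0) (hy : ∃ u ∈ X, sympForm m F u y ≠ 0) :
    ∃ u ∈ X, sympForm m F u x ≠ 0 ∧ sympForm m F u y ≠ 0 := by
  obtain ⟨u₁, hu₁, h1⟩ := hx
  obtain ⟨u₂, hu₂, h2⟩ := hy
  by_cases h3 : sympForm m F u₁ y ≠ 0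
  · exact ⟨u₁, hu₁, h1, h3⟩
  by_cases h4 : sympForm m F u₂ x ≠ 0
  · exact ⟨u₂, hu₂, h4, h2⟩
  push Not at h3 h4
  refine ⟨u₁ + u₂, X.add_mem hu₁ hu₂, ?_, ?_⟩
  · rw [sf_add_left, h4, add_zero]; exact h1
  · rw [sf_add_left, h3, zero_add]; exact h2

end Cfsg.Agent.Helper94
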