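import Mathlib
import Cfsg.Prelude.Def_OddOrder

set_option autoImplicit false

/-!
Helper library (helper94), piece `TFX` of helper25's CALL BG17 (row S1381):
the cyclic subgroup generated by an element of `U` of order the exponent of `U`, read inside
the subtype of `L`.
-/

namespace Cfsg.Agent.Helper94

open Cfsg Subgroup

universe u

variable {G : Type u} [Group G] [Finite G]

/-- TFX (pure packaging). The subgroup `U₀ := <u>` read inside `↥L`. -/
theorem bg17_typeF_U0 {L U S : Subgroup G} (hUL : U ≤ L) (u : ↥U)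
    (hu : orderOf u = Monoid.exponent ↥U)
    (hfpf : ∀ c ∈ zpowers (u : G), c ≠ 1 → ∀ x ∈ S, c * x = x * c → x = 1) :
    ∃ U₀ : Subgroup ↥L, U₀ ≤ U.subgroupOf L ∧
      Monoid.exponent ↥U₀ = Monoid.exponent ↥(U.subgroupOf L) ∧
      ∀ c ∈ U₀, c ≠ 1 → ∀ x ∈ S.subgroupOf L, c * x = x * c → x = 1 := by
  classical
  let v : ↥L := ⟨(u : G), hUL u.2⟩
  have hv : orderOf v = orderOf u := by
    rw [← Subgroup.orderOf_coe v, ← Subgroup.orderOf_coe u]
  refine ⟨zpowers v, ?_, ?_, ?_⟩
  · rw [zpowers_le, mem_subgroupOf]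
    exact u.2
  · have h1 : Monoid.exponent ↥(zpowers v) = orderOf v := by
      have hcyc : IsCyclic ↥(zpowers v) := inferInstance
      rw [IsCyclic.exponent_eq_card, Nat.card_zpowers]
    have h2 : Monoid.exponent ↥(U.subgroupOf L) = Monoid.exponent ↥U :=
      Monoid.exponent_eq_of_mulEquiv (Subgroup.subgroupOfEquivOfLe hUL)
    rw [h1, h2, hv, hu]
  · intro c hc hc1 x hx hcx
    obtain ⟨k, rfl⟩ := mem_zpowers_iff.mp hc
    have hx1 : (x : G) = 1 := by
      apply hfpf (((v ^ k : ↥L)) : G)
      · rw [Subgroup.coe_zpow]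
        exact zpow_mem (mem_zpowers _) k
      · intro h
        exact hc1 (Subtype.ext h)
      · exact mem_subgroupOf.mp hx
      · have := congrArg (Subtype.val) hcx
        simpa using this
    exact Subtype.ext hx1

end Cfsg.Agent.Helper94
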