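import Cfsg.Prelude.Def_GeometricClasses

set_option autoImplicit false
set_option linter.unusedSectionVars false
set_option linter.unusedSimpArgs false

namespace Cfsg.Agent.Helper94

open Cfsg Cfsg.Geo Matrix

universe u

variable {ι : Type} [Fintype ι] [DecidableEq ι] {F : Type u} [Field F]

theorem mem_stabilizing_iff (S : Set (ι → F)) (g : GL ι F) :
    g ∈ Cfsg.stabilizing (Cfsg.glToMat ι F) S ↔ ∀ v, v ∈ S ↔ (g : Matrix ι ι F) *ᵥ v ∈ S := Iff.rfl

/-! ### Invertible matrices from involutive linear maps -/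

/-- The element of `GL ι F` of an involutive linear map. -/
noncomputable def glOfInvol (φ : (ι → F) →ₗ[F] (ι → F)) (h : ∀ v, φ (φ v) = v) : GL ι F :=
  ⟨LinearMap.toMatrix' φ, LinearMap.toMatrix' φ,
    by
      rw [← LinearMap.toMatrix'_comp]
      have : φ ∘ₗ φ = LinearMap.id := LinearMap.ext h
      rw [this, LinearMap.toMatrix'_id],
    by
      rw [← LinearMap.toMatrix'_comp]
      have : φ ∘ₗ φ = LinearMap.id := LinearMap.ext h
      rw [this, LinearMap.toMatrix'_id]⟩

theorem glOfInvol_mulVec (φ : (ι → F) →ₗ[F] (ι → F)) (h : ∀ v, φ (φ v) = v) (v : ι → F) :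
    ((glOfInvol φ h : GL ι F) : Matrix ι ι F) *ᵥ v = φ v :=
  LinearMap.toMatrix'_mulVec _ _

theorem glOfInvol_inv (φ : (ι → F) →ₗ[F] (ι → F)) (h : ∀ v, φ (φ v) = v) :
    (glOfInvol φ h)⁻¹ = glOfInvol φ h := rfl

theorem glOfInvol_mul_self (φ : (ι → F) →ₗ[F] (ι → F)) (h : ∀ v, φ (φ v) = v) :
    glOfInvol φ h * glOfInvol φ h = 1 := by
  have := mul_inv_cancel (glOfInvol φ h)
  rwa [glOfInvol_inv] at this

/-- In characteristic two an involution has determinant one. -/
theorem mem_specialLinear_of_invol (h2 : (2 : F) = 0) (g : GL ι F) (hg : g * g = 1) :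
    g ∈ specialLinear ι F := by
  change Matrix.GeneralLinearGroup.det g = 1
  have h1 : Matrix.GeneralLinearGroup.det g * Matrix.GeneralLinearGroup.det g = 1 := by
    rw [← map_mul, hg, map_one]
  have h3 : ((Matrix.GeneralLinearGroup.det g : Fˣ) : F) * ((Matrix.GeneralLinearGroup.det g : Fˣ) : F) = 1 := by
    rw [← Units.val_mul, h1, Units.val_one]
  apply Units.ext
  rw [Units.val_one]
  have h5 : (((Matrix.GeneralLinearGroup.det g : Fˣ) : F) - 1) * (((Matrix.GeneralLinearGroup.det g : Fˣ) : F) - 1) = 0 := by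
    linear_combination h3 - ((Matrix.GeneralLinearGroup.det g : Fˣ) : F) * h2 + h2
  have h6 := mul_self_eq_zero.mp h5
  linear_combination h6

/-! ### The Hermitian form `Σ u_i v_i^2` over the field with four elements -/

section Herm

variable {n : ℕ}

theorem mem_GU_iff (q : ℕ) (g : GL (Fin n) F) :
    g ∈ GU n F q ↔ ∀ u v : Fin n → F, hermForm n F q ((g : Matrix (Fin n) (Fin n) F) *ᵥ u)
      ((g : Matrix (Fin n) (Fin n) F) *ᵥ v) = hermForm n F q u v := Iff.rfl

theorem herm_add_left (q : ℕ) (x y v : Fin n → F) :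
    hermForm n F q (x + y) v = hermForm n F q x v + hermForm n F q y v := by
  unfold hermForm
  simp only [Pi.add_apply, add_mul, Finset.sum_add_distrib]

theorem herm_smul_left (q : ℕ) (c : F) (x v : Fin n → F) :
    hermForm n F q (c • x) v = c * hermForm n F q x v := by
  unfold hermForm
  simp only [Pi.smul_apply, smul_eq_mul, Finset.mul_sum, mul_assoc]

theorem herm2_add_right (h2 : (2 : F) = 0) (v x y : Fin n → F) :
    hermForm n F 2 v (x + y) = hermForm n F 2 v x + hermForm n F 2 v y := by
  unfold hermForm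
  rw [← Finset.sum_add_distrib]
  refine Finset.sum_congr rfl (fun i _ => ?_)
  simp only [Pi.add_apply]
  linear_combination (v i * x i * y i) * h2

theorem herm2_smul_right (c : F) (v x : Fin n → F) :
    hermForm n F 2 v (c • x) = c ^ 2 * hermForm n F 2 v x := by
  unfold hermForm
  rw [Finset.mul_sum]
  refine Finset.sum_congr rfl (fun i _ => ?_)
  simp only [Pi.smul_apply, smul_eq_mul]
  ring

theorem herm2_symm (h2 : (2 : F) = 0) (h4 : ∀ x : F, x ^ 4 = x) (x y : Fin n → F) :
    hermForm n F 2 y x = (hermForm n F 2 x y) ^ 2 := by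
  unfold hermForm
  have hsq : ∀ (s : Finset (Fin n)) (f : Fin n → F), (∑ i ∈ s, f i) ^ 2 = ∑ i ∈ s, (f i) ^ 2 := by
    intro s f
    induction s using Finset.induction_on with
    | empty => simp
    | insert a s ha ih =>
      rw [Finset.sum_insert ha, Finset.sum_insert ha, ← ih]
      linear_combination (f a * ∑ i ∈ s, f i) * h2
  rw [hsq]
  refine Finset.sum_congr rfl (fun i _ => ?_)
  have := h4 (y i)
  linear_combination (- x i ^ 2) * this

theorem herm2_zero_left (v : Fin n → F) : hermForm n F 2 0 v = 0 := by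
  unfold hermForm; simp

/-- `x ↦ h(x, v)` as a linear map. -/
noncomputable def hermL (q : ℕ) (v : Fin n → F) : (Fin n → F) →ₗ[F] F where
  toFun x := hermForm n F q x v
  map_add' x y := herm_add_left q x y v
  map_smul' c x := by simp [herm_smul_left]

/-- The unitary transvection `x ↦ x + h(x,v) v` (for `q = 2`). -/
noncomputable def utLin (v : Fin n → F) : (Fin n → F) →ₗ[F] (Fin n → F) :=
  LinearMap.id + (hermL 2 v).smulRight v

theorem utLin_apply (v x : Fin n → F) : utLin v x = x + hermForm n F 2 x v • v := rfl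

theorem utLin_invol (h2 : (2 : F) = 0) (v : Fin n → F) (hv : hermForm n F 2 v v = 0) (x : Fin n → F) :
    utLin v (utLin v x) = x := by
  rw [utLin_apply, utLin_apply, herm_add_left, herm_smul_left, hv, mul_zero, add_zero, add_assoc,
    ← add_smul, ← two_mul, h2, zero_mul, zero_smul, add_zero]

theorem utLin_herm (h2 : (2 : F) = 0) (h4 : ∀ x : F, x ^ 4 = x) (v : Fin n → F)
    (hv : hermForm n F 2 v v = 0) (x y : Fin n → F) :
    hermForm n F 2 (utLin v x) (utLin v y) = hermForm n F 2 x y := by
  simp only [utLin_apply, herm_add_left, herm2_add_right h2, herm_smul_left, herm2_smul_right, hv]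
  rw [herm2_symm h2 h4 y v]
  linear_combination (hermForm n F 2 x v * hermForm n F 2 y v ^ 2) * h2

/-- The unitary transvection as an element of `GL`. -/
noncomputable def utGL (h2 : (2 : F) = 0) (v : Fin n → F) (hv : hermForm n F 2 v v = 0) : GL (Fin n) F :=
  glOfInvol (utLin v) (utLin_invol h2 v hv)

theorem utGL_mulVec (h2 : (2 : F) = 0) (v : Fin n → F) (hv : hermForm n F 2 v v = 0) (x : Fin n → F) :
    ((utGL h2 v hv : GL (Fin n) F) : Matrix (Fin n) (Fin n) F) *ᵥ x = x + hermForm n F 2 x v • v :=
  glOfInvol_mulVec _ _ _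

theorem utGL_mem (h2 : (2 : F) = 0) (h4 : ∀ x : F, x ^ 4 = x) (v : Fin n → F)
    (hv : hermForm n F 2 v v = 0) :
    utGL h2 v hv ∈ GU n F 2 ⊓ specialLinear (Fin n) F := by
  refine ⟨?_, mem_specialLinear_of_invol h2 _ (glOfInvol_mul_self _ _)⟩
  intro x y
  change hermForm n F 2 (((utGL h2 v hv : GL (Fin n) F) : Matrix (Fin n) (Fin n) F) *ᵥ x)
    (((utGL h2 v hv : GL (Fin n) F) : Matrix (Fin n) (Fin n) F) *ᵥ y) = hermForm n F 2 x y
  rw [utGL_mulVec, utGL_mulVec]
  exact utLin_herm h2 h4 v hv x y

theorem utGL_mul_self (h2 : (2 : F) = 0) (v : Fin n → F) (hv : hermForm n F 2 v v = 0) :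
    utGL h2 v hv * utGL h2 v hv = 1 := glOfInvol_mul_self _ _


theorem two_eq_zero_of_card_four [Fintype F] (hF : Fintype.card F = 4) : (2 : F) = 0 := by
  have h4c : (4 : F) = 0 := by
    have := Nat.cast_card_eq_zero F
    rw [hF] at this
    exact_mod_cast this
  have : (2 : F) * 2 = 0 := by linear_combination h4c
  exact mul_self_eq_zero.mp this

theorem pow_four_of_card_four [Fintype F] (hF : Fintype.card F = 4) (x : F) : x ^ 4 = x := by
  have := FiniteField.pow_card x
  rwa [hF] at this

theorem pow_three_of_card_four [Fintype F] (hF : Fintype.card F = 4) (x : F) (hx : x ≠ 0) : x ^ 3 = 1 := by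
  have := FiniteField.pow_card_sub_one_eq_one x hx
  rwa [hF] at this

theorem herm2_self (h2 : (2 : F) = 0) (h4 : ∀ x : F, x ^ 4 = x) (v : Fin n → F) :
    hermForm n F 2 v v = 0 ∨ hermForm n F 2 v v = 1 := by
  have h := herm2_symm h2 h4 v v
  have h' : hermForm n F 2 v v * (hermForm n F 2 v v - 1) = 0 := by linear_combination -h
  rcases mul_eq_zero.mp h' with h0 | h1
  · exact Or.inl h0
  · exact Or.inr (by linear_combination h1)

/-- A non-degenerate two-dimensional unitary space over the field with four elements has an orthonormal basis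
`a, b`, and its non-isotropic vectors are the non-zero multiples of `a` and of `b`. -/
theorem exists_frame [Fintype F] (hF : Fintype.card F = 4) (W : Submodule F (Fin n → F))
    (hdim : Module.finrank F W = 2) (hnd : IsNondegenerateOn (hermForm n F 2) W) :
    ∃ a b : Fin n → F, a ∈ W ∧ b ∈ W ∧ hermForm n F 2 a a = 1 ∧ hermForm n F 2 b b = 1 ∧
      hermForm n F 2 a b = 0 ∧ hermForm n F 2 b a = 0 ∧
      ∀ v ∈ W, hermForm n F 2 v v ≠ 0 → (∃ c : F, v = c • a) ∨ (∃ c : F, v = c • b) := by
  classical
  have h2 := two_eq_zero_of_card_four hF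
  have h4 := pow_four_of_card_four hF
  have h3 := pow_three_of_card_four hF
  -- Step A: a non-isotropic vector
  have hA : ∃ a ∈ W, hermForm n F 2 a a ≠ 0 := by
    by_contra hcon
    have hcon' : ∀ a ∈ W, hermForm n F 2 a a = 0 := by
      intro a ha
      by_contra h
      exact hcon ⟨a, ha, h⟩
    have hWne : W ≠ ⊥ := by
      intro hbot
      rw [hbot] at hdim
      simp at hdim
    obtain ⟨u, huW, hu0⟩ := Submodule.exists_mem_ne_zero_of_ne_bot hWne
    obtain ⟨⟨x, hxW, hxu⟩, -⟩ := hnd u huW hu0
    obtain ⟨ω, -, hω⟩ := Finset.exists_mem_notMem_of_card_lt_card (s := ({0, 1} : Finset F))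
      (t := Finset.univ) (by
        rw [Finset.card_univ, hF]
        exact lt_of_le_of_lt Finset.card_le_two (by norm_num))
    have hω0 : ω ≠ 0 := by
      intro h
      apply hω
      simp [h]
    have hω1 : ω ≠ 1 := by
      intro h
      apply hω
      simp [h]
    have key : ∀ l : F, l ^ 2 * hermForm n F 2 x u + l * (hermForm n F 2 x u) ^ 2 = 0 := by
      intro l
      have := hcon' (x + l • u) (W.add_mem hxW (W.smul_mem _ huW))
      simp only [herm_add_left, herm2_add_right h2, herm_smul_left, herm2_smul_right] at this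
      rw [hcon' x hxW, hcon' u huW, herm2_symm h2 h4 x u] at this
      linear_combination this
    have k1 := key 1
    have kω := key ω
    have hc1 : hermForm n F 2 x u = 1 := by
      have : hermForm n F 2 x u * (hermForm n F 2 x u + 1) = 0 := by linear_combination k1
      rcases mul_eq_zero.mp this with h | h
      · exact absurd h hxu
      · linear_combination h - h2
    rw [hc1] at kω
    have : ω * (ω + 1) = 0 := by linear_combination kω
    rcases mul_eq_zero.mp this with h | h
    · exact hω0 h
    · exact hω1 (by linear_combination h - h2)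
  obtain ⟨a, haW, ha0⟩ := hA
  have haa : hermForm n F 2 a a = 1 := (herm2_self h2 h4 a).resolve_left ha0
  -- Step C: a second vector orthogonal to a
  have hnotle : ¬ W ≤ Submodule.span F {a} := by
    intro hle
    have h1 := Submodule.finrank_mono hle
    have ha_ne : a ≠ 0 := by
      rintro rfl
      exact ha0 (herm2_zero_left 0)
    have h5 : Module.finrank F (Submodule.span F {a}) = 1 := finrank_span_singleton ha_ne
    omega
  obtain ⟨w, hwW, hw⟩ := SetLike.not_le_iff_exists.mp hnotle
  have hbW : w - hermForm n F 2 w a • a ∈ W := W.sub_mem hwW (W.smul_mem _ haW)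
  have hba : hermForm n F 2 (w - hermForm n F 2 w a • a) a = 0 := by
    rw [sub_eq_add_neg, herm_add_left, ← neg_smul, herm_smul_left, haa]
    ring
  have hb0 : w - hermForm n F 2 w a • a ≠ 0 := by
    intro h
    apply hw
    rw [sub_eq_zero] at h
    rw [h]
    exact Submodule.smul_mem _ _ (Submodule.mem_span_singleton_self a)
  obtain ⟨b, hbW, hba, hb0⟩ : ∃ b : Fin n → F, b ∈ W ∧ hermForm n F 2 b a = 0 ∧ b ≠ 0 :=
    ⟨_, hbW, hba, hb0⟩
  have hab : hermForm n F 2 a b = 0 := by
    rw [herm2_symm h2 h4 b a, hba]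
    ring
  -- Step D: W = span {a, b}
  have hli : LinearIndependent F ![a, b] := by
    rw [LinearIndependent.pair_iff]
    intro s t hst
    have h1 := congrArg (fun v => hermForm n F 2 v a) hst
    simp only [herm_add_left, herm_smul_left, haa, hba, herm2_zero_left] at h1
    have hs : s = 0 := by linear_combination h1
    subst hs
    simp only [zero_smul, zero_add, smul_eq_zero] at hst
    exact ⟨rfl, hst.resolve_right hb0⟩
  have hspan : W = Submodule.span F {a, b} := by
    symm
    apply Submodule.eq_of_le_of_finrank_eq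
    · rw [Submodule.span_le]
      intro v hv
      rcases hv with rfl | rfl
      exacts [haW, hbW]
    · rw [hdim]
      have := finrank_span_eq_card hli
      rw [Matrix.range_cons_cons_empty] at this
      simpa using this
  -- Step E: b is non-isotropic
  have hbb : hermForm n F 2 b b = 1 := by
    refine (herm2_self h2 h4 b).resolve_left ?_
    intro hbb0
    obtain ⟨⟨x, hxW, hxb⟩, -⟩ := hnd b hbW hb0
    rw [hspan] at hxW
    obtain ⟨α, β, rfl⟩ := Submodule.mem_span_pair.mp hxW
    apply hxb
    simp only [herm_add_left, herm_smul_left, hab, hbb0]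
    ring
  refine ⟨a, b, haW, hbW, haa, hbb, hab, hba, ?_⟩
  intro v hvW hv
  rw [hspan] at hvW
  obtain ⟨α, β, rfl⟩ := Submodule.mem_span_pair.mp hvW
  simp only [herm_add_left, herm2_add_right h2, herm_smul_left, herm2_smul_right, haa, hbb, hab, hba] at hv
  by_cases hα : α = 0
  · right
    exact ⟨β, by rw [hα, zero_smul, zero_add]⟩
  · by_cases hβ : β = 0
    · left
      exact ⟨α, by rw [hβ, zero_smul, add_zero]⟩
    · exfalso
      apply hv
      have e1 := h3 α hα
      have e2 := h3 β hβ
      linear_combination e1 + e2 + h2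

end Herm

end Cfsg.Agent.Helper94
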