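import Cfsg.Prelude.Def_Transfer
import Cfsg.Prelude.Def_Solvable
import Cfsg.Agent.Helper63.N15Defs

/-!
# CALL S4415 part B (helper63), piece p3e (helper94, double): `[E, R]` is irreducible for `R ⊔ B`
-/

set_option autoImplicit false

namespace Cfsg.Agent.Helper94.N15

open Cfsg.Agent.Helper63.N15

section slevel

variable {S : Type*} [Group S] [Finite S] {E : Type*} [AddCommGroup E] [Module (ZMod 3) E]
  [Finite E]

/-- A subgroup containing `b` and invariant under conjugation by `R` contains `R = [R, ⟨b⟩]`. -/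
theorem p3e_comm_le (R B T : Subgroup S) (b : S) (hb : Subgroup.zpowers b = B)
    (hcomm : ⁅R, B⁆ = R) (hbT : b ∈ T) (hconj : ∀ r ∈ R, ∀ g ∈ T, r * g * r⁻¹ ∈ T) : R ≤ T := by
  have hBT : B ≤ T := by
    rw [← hb]
    exact (Subgroup.zpowers_le).mpr hbT
  rw [← hcomm, Subgroup.commutator_le]
  intro g₁ h₁ g₂ h₂
  rw [commutatorElement_def]
  exact T.mul_mem (hconj g₁ h₁ g₂ (hBT h₂)) (T.inv_mem (hBT h₂))

theorem p3e (ρ : Representation (ZMod 3) S E) (R B : Subgroup S) (b q₁ q₂ q₃ : S)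
    (v₁ v₂ v₃ : E) (hb : Subgroup.zpowers b = B) (hnorm : ∀ x ∈ B, ∀ r ∈ R, x * r * x⁻¹ ∈ R)
    (hcomm : ⁅R, B⁆ = R) (hq1 : q₁ ∈ R) (hq2 : q₂ ∈ R) (h11 : q₁ * q₁ = 1) (h22 : q₂ * q₂ = 1)
    (h12 : q₁ * q₂ = q₃) (h21 : q₂ * q₁ = q₃) (hbv1 : ρ b v₁ = v₂) (hbv2 : ρ b v₂ = v₃)
    (hbv3 : ρ b v₃ = v₁) (s11 : ρ q₁ v₁ = v₁) (s12 : ρ q₁ v₂ = -v₂) (s13 : ρ q₁ v₃ = -v₃)
    (s21 : ρ q₂ v₁ = -v₁) (s22 : ρ q₂ v₂ = v₂) (s23 : ρ q₂ v₃ = -v₃)
    (hdec : ∀ v : E, ∃ u : E, ∃ c₁ c₂ c₃ : ZMod 3, v = u + c₁ • v₁ + c₂ • v₂ + c₃ • v₃ ∧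
      ρ q₁ u = u ∧ ρ q₂ u = u ∧ ρ q₃ u = u ∧ ρ b u = u)
    (F₀ F₁ : Submodule (ZMod 3) E) (h01 : F₀ ⊓ F₁ = ⊥)
    (hF1 : ∀ v : E, v ∈ F₁ ↔ ∀ r ∈ R, ρ r v = v)
    (hmin : ∀ N : Submodule (ZMod 3) E, (∀ r ∈ R, ∀ v : E, ρ r v - v ∈ N) → F₀ ≤ N) :
    ∀ N : Submodule (ZMod 3) E, N ≤ F₀ → (∀ g ∈ R ⊔ B, ∀ v ∈ N, ρ g v ∈ N) →
      N = ⊥ ∨ N = F₀ := by
  intro N hNF hN
  have hmul : ∀ (g h : S) (v : E), ρ (g * h) v = ρ g (ρ h v) := by
    intro g h v
    rw [map_mul]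
    rfl
  have hone : ∀ v : E, ρ 1 v = v := by
    intro v
    rw [map_one]
    rfl
  have hinv2 : ∀ (g : S) (v : E), ρ g (ρ g⁻¹ v) = v := by
    intro g v
    rw [← hmul, mul_inv_cancel, hone]
  have hinv1 : ∀ (g : S) (v : E), ρ g⁻¹ (ρ g v) = v := by
    intro g v
    rw [← hmul, inv_mul_cancel, hone]
  have hbm : b ∈ R ⊔ B := Subgroup.mem_sup_right (hb ▸ Subgroup.mem_zpowers b)
  have hRm : ∀ r ∈ R, r ∈ R ⊔ B := fun r hr => Subgroup.mem_sup_left hr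
  by_cases hv1 : v₁ ∈ N
  · right
    have hv2 : v₂ ∈ N := by rw [← hbv1]; exact hN b hbm v₁ hv1
    have hv3 : v₃ ∈ N := by rw [← hbv2]; exact hN b hbm v₂ hv2
    let T : Subgroup S :=
      { carrier := {g | g ∈ R ⊔ B ∧ ∀ v : E, ρ g v - v ∈ N}
        mul_mem' := by
          rintro g h ⟨hg1, hg2⟩ ⟨hh1, hh2⟩
          refine ⟨mul_mem hg1 hh1, fun v => ?_⟩
          have := N.add_mem (hg2 (ρ h v)) (hh2 v)
          rw [sub_add_sub_cancel] at this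
          rw [hmul]
          exact this
        one_mem' := ⟨one_mem _, fun v => by rw [hone, sub_self]; exact N.zero_mem⟩
        inv_mem' := by
          rintro g ⟨hg1, hg2⟩
          refine ⟨inv_mem hg1, fun v => ?_⟩
          have := hg2 (ρ g⁻¹ v)
          rw [hinv2] at this
          have h2 := N.neg_mem this
          rwa [neg_sub] at h2 }
    have hbT : b ∈ T := by
      refine ⟨hbm, fun v => ?_⟩
      obtain ⟨u, c₁, c₂, c₃, rfl, -, -, -, hbu⟩ := hdec v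
      have e : ρ b (u + c₁ • v₁ + c₂ • v₂ + c₃ • v₃) - (u + c₁ • v₁ + c₂ • v₂ + c₃ • v₃) =
          c₁ • (v₂ - v₁) + c₂ • (v₃ - v₂) + c₃ • (v₁ - v₃) := by
        simp only [map_add, map_smul, hbu, hbv1, hbv2, hbv3]
        module
      rw [e]
      exact N.add_mem (N.add_mem (N.smul_mem _ (N.sub_mem hv2 hv1))
        (N.smul_mem _ (N.sub_mem hv3 hv2))) (N.smul_mem _ (N.sub_mem hv1 hv3))
    have hconj : ∀ r ∈ R, ∀ g ∈ T, r * g * r⁻¹ ∈ T := by
      rintro r hr g ⟨hg1, hg2⟩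
      refine ⟨mul_mem (mul_mem (hRm r hr) hg1) (inv_mem (hRm r hr)), fun v => ?_⟩
      have h1 := hN r (hRm r hr) _ (hg2 (ρ r⁻¹ v))
      rw [map_sub, hinv2] at h1
      rw [hmul, hmul]
      exact h1
    have hRT := p3e_comm_le R B T b hb hcomm hbT hconj
    exact le_antisymm hNF (hmin N fun r hr v => (hRT hr).2 v)
  · left
    have h4 : (4 : ZMod 3) = 1 := by decide
    have key : ∀ x ∈ N, ρ b x = x := by
      intro x hx
      obtain ⟨u, c₁, c₂, c₃, hxe, hq1u, hq2u, -, hbu⟩ := hdec x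
      have hq1x : ρ q₁ x ∈ N := hN q₁ (hRm q₁ hq1) x hx
      have hq2x : ρ q₂ x ∈ N := hN q₂ (hRm q₂ hq2) x hx
      have hq12x : ρ q₁ (ρ q₂ x) ∈ N := hN q₁ (hRm q₁ hq1) _ hq2x
      have e2 : ρ q₂ x = u - c₁ • v₁ + c₂ • v₂ - c₃ • v₃ := by
        rw [hxe]
        simp only [map_add, map_smul, hq2u, s21, s22, s23]
        module
      have e1 : ρ q₁ x = u + c₁ • v₁ - c₂ • v₂ - c₃ • v₃ := by
        rw [hxe]
        simp only [map_add, map_smul, hq1u, s11, s12, s13]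
        module
      have e12 : ρ q₁ (ρ q₂ x) = u - c₁ • v₁ - c₂ • v₂ + c₃ • v₃ := by
        rw [e2]
        simp only [map_add, map_sub, map_smul, hq1u, s11, s12, s13]
        module
      have m1 : c₁ • v₁ ∈ N := by
        have : x - ρ q₂ x + ρ q₁ x - ρ q₁ (ρ q₂ x) = (4 : ZMod 3) • (c₁ • v₁) := by
          rw [e12, e1, e2, hxe]
          module
        rw [h4, one_smul] at this
        rw [← this]
        exact N.sub_mem (N.add_mem (N.sub_mem hx hq2x) hq1x) hq12x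
      have m2 : c₂ • v₂ ∈ N := by
        have : x + ρ q₂ x - ρ q₁ x - ρ q₁ (ρ q₂ x) = (4 : ZMod 3) • (c₂ • v₂) := by
          rw [e12, e1, e2, hxe]
          module
        rw [h4, one_smul] at this
        rw [← this]
        exact N.sub_mem (N.sub_mem (N.add_mem hx hq2x) hq1x) hq12x
      have m3 : c₃ • v₃ ∈ N := by
        have : x - ρ q₂ x - ρ q₁ x + ρ q₁ (ρ q₂ x) = (4 : ZMod 3) • (c₃ • v₃) := by
          rw [e12, e1, e2, hxe]
          module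
        rw [h4, one_smul] at this
        rw [← this]
        exact N.add_mem (N.sub_mem (N.sub_mem hx hq2x) hq1x) hq12x
      have hfield : ∀ (c : ZMod 3) (w : E), c • w ∈ N → c ≠ 0 → w ∈ N := by
        intro c w hcw hc
        haveI : Fact (Nat.Prime 3) := ⟨by norm_num⟩
        have := N.smul_mem c⁻¹ hcw
        rwa [smul_smul, inv_mul_cancel₀ hc, one_smul] at this
      have hc1 : c₁ = 0 := by
        by_contra hc
        exact hv1 (hfield c₁ v₁ m1 hc)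
      have hc3 : c₃ = 0 := by
        by_contra hc
        have hv3 : v₃ ∈ N := hfield c₃ v₃ m3 hc
        apply hv1
        rw [← hbv3]
        exact hN b hbm v₃ hv3
      have hc2 : c₂ = 0 := by
        by_contra hc
        have hv2 : v₂ ∈ N := hfield c₂ v₂ m2 hc
        have hv3 : v₃ ∈ N := by rw [← hbv2]; exact hN b hbm v₂ hv2
        apply hv1
        rw [← hbv3]
        exact hN b hbm v₃ hv3
      rw [hc1, hc2, hc3, zero_smul, zero_smul, zero_smul, add_zero, add_zero, add_zero] at hxe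
      rw [hxe]
      exact hbu
    let T : Subgroup S :=
      { carrier := {g | g ∈ R ⊔ B ∧ ∀ x ∈ N, ρ g x = x}
        mul_mem' := by
          rintro g h ⟨hg1, hg2⟩ ⟨hh1, hh2⟩
          refine ⟨mul_mem hg1 hh1, fun x hx => ?_⟩
          rw [hmul, hh2 x hx, hg2 x hx]
        one_mem' := ⟨one_mem _, fun x _ => hone x⟩
        inv_mem' := by
          rintro g ⟨hg1, hg2⟩
          refine ⟨inv_mem hg1, fun x hx => ?_⟩
          have := hinv1 g x
          rwa [hg2 x hx] at this }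
    have hbT : b ∈ T := ⟨hbm, key⟩
    have hconj : ∀ r ∈ R, ∀ g ∈ T, r * g * r⁻¹ ∈ T := by
      rintro r hr g ⟨hg1, hg2⟩
      refine ⟨mul_mem (mul_mem (hRm r hr) hg1) (inv_mem (hRm r hr)), fun x hx => ?_⟩
      have h1 : ρ r⁻¹ x ∈ N := hN r⁻¹ (inv_mem (hRm r hr)) x hx
      rw [hmul, hmul, hg2 _ h1, hinv2]
    have hRT := p3e_comm_le R B T b hb hcomm hbT hconj
    rw [eq_bot_iff]
    intro x hx
    have hxF : x ∈ F₀ ⊓ F₁ := ⟨hNF hx, (hF1 x).mpr fun r hr => (hRT hr).2 x hx⟩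
    rw [h01] at hxF
    exact hxF

end slevel

end Cfsg.Agent.Helper94.N15
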