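import Cfsg.Prelude.Def_GeometricClasses

set_option autoImplicit false
set_option linter.unusedSectionVars false

namespace Cfsg.Agent.Helper94

open Cfsg Cfsg.Geo Matrix
open scoped commutatorElement

universe u

variable {ι : Type} [Fintype ι] [DecidableEq ι] {F : Type u} [Field F]
variable {Q : (ι → F) → F}

/-! ### Polar identities for a quadratic form given as a function -/

/-- The polar form of `Q` as a bilinear map. -/
noncomputable def polB (hQ : IsNondegenerateQuadraticForm Q) : (ι → F) →ₗ[F] (ι → F) →ₗ[F] F :=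
  LinearMap.mk₂ F (QuadraticMap.polar Q) hQ.polar_bilinear.add_left hQ.polar_bilinear.smul_left
    hQ.polar_bilinear.add_right hQ.polar_bilinear.smul_right

theorem polB_apply (hQ : IsNondegenerateQuadraticForm Q) (u v : ι → F) :
    polB hQ u v = QuadraticMap.polar Q u v := rfl

theorem polB_comm (hQ : IsNondegenerateQuadraticForm Q) (u v : ι → F) :
    polB hQ u v = polB hQ v u := QuadraticMap.polar_comm Q u v

theorem q_add (hQ : IsNondegenerateQuadraticForm Q) (u v : ι → F) :
    Q (u + v) = Q u + Q v + polB hQ u v := by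
  rw [polB_apply]; unfold QuadraticMap.polar; ring

theorem q_smul (hQ : IsNondegenerateQuadraticForm Q) (c : F) (v : ι → F) :
    Q (c • v) = c ^ 2 * Q v := hQ.smul c v

theorem q_zero (hQ : IsNondegenerateQuadraticForm Q) : Q 0 = 0 := by
  have h := hQ.smul 0 0
  simpa using h

theorem q_neg (hQ : IsNondegenerateQuadraticForm Q) (v : ι → F) : Q (-v) = Q v := by
  have h := hQ.smul (-1) v
  simpa using h

theorem polB_self (hQ : IsNondegenerateQuadraticForm Q) (v : ι → F) :
    polB hQ v v = 2 * Q v := by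
  have h := hQ.smul 2 v
  rw [polB_apply]; unfold QuadraticMap.polar
  rw [← two_smul F v, h]; ring

theorem q_sub (hQ : IsNondegenerateQuadraticForm Q) (u v : ι → F) :
    Q (u - v) = Q u + Q v - polB hQ u v := by
  rw [sub_eq_add_neg, q_add hQ, q_neg hQ, map_neg]; ring

/-! ### Reflections -/

/-- The reflection `v ↦ v - Q(u)⁻¹ B(v,u) u` as a linear map. -/
noncomputable def reflLin (hQ : IsNondegenerateQuadraticForm Q) (u : ι → F) : (ι → F) →ₗ[F] (ι → F) :=
  LinearMap.id - (((Q u)⁻¹ • (polB hQ).flip u).smulRight u)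

theorem reflLin_apply (hQ : IsNondegenerateQuadraticForm Q) (u v : ι → F) :
    reflLin hQ u v = v - ((Q u)⁻¹ * polB hQ v u) • u := by
  simp [reflLin]

theorem q_reflLin (hQ : IsNondegenerateQuadraticForm Q) {u : ι → F} (hu : Q u ≠ 0) (v : ι → F) :
    Q (reflLin hQ u v) = Q v := by
  rw [reflLin_apply, q_sub hQ, q_smul hQ, map_smul, smul_eq_mul]
  field_simp
  ring

theorem reflLin_invol (hQ : IsNondegenerateQuadraticForm Q) {u : ι → F} (hu : Q u ≠ 0) (v : ι → F) :
    reflLin hQ u (reflLin hQ u v) = v := by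
  rw [reflLin_apply, reflLin_apply, map_sub, LinearMap.sub_apply, map_smul, LinearMap.smul_apply,
    polB_self hQ, smul_eq_mul]
  have : (Q u)⁻¹ * (polB hQ v u - (Q u)⁻¹ * polB hQ v u * (2 * Q u)) = - ((Q u)⁻¹ * polB hQ v u) := by
    field_simp; ring
  rw [this]
  module

/-- The reflection as an element of the general linear group. -/
noncomputable def reflGL (hQ : IsNondegenerateQuadraticForm Q) (u : ι → F) (hu : Q u ≠ 0) : GL ι F :=
  ⟨LinearMap.toMatrix' (reflLin hQ u), LinearMap.toMatrix' (reflLin hQ u),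
    by
      rw [← LinearMap.toMatrix'_comp]
      have : reflLin hQ u ∘ₗ reflLin hQ u = LinearMap.id := LinearMap.ext (reflLin_invol hQ hu)
      rw [this, LinearMap.toMatrix'_id],
    by
      rw [← LinearMap.toMatrix'_comp]
      have : reflLin hQ u ∘ₗ reflLin hQ u = LinearMap.id := LinearMap.ext (reflLin_invol hQ hu)
      rw [this, LinearMap.toMatrix'_id]⟩

theorem reflGL_mulVec (hQ : IsNondegenerateQuadraticForm Q) (u : ι → F) (hu : Q u ≠ 0) (v : ι → F) :
    ((reflGL hQ u hu : GL ι F) : Matrix ι ι F) *ᵥ v = reflLin hQ u v :=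
  LinearMap.toMatrix'_mulVec _ _

theorem reflGL_inv (hQ : IsNondegenerateQuadraticForm Q) (u : ι → F) (hu : Q u ≠ 0) :
    (reflGL hQ u hu)⁻¹ = reflGL hQ u hu := rfl

theorem reflGL_mem (hQ : IsNondegenerateQuadraticForm Q) (u : ι → F) (hu : Q u ≠ 0) :
    reflGL hQ u hu ∈ isometryGroup F Q := by
  intro x _
  change Q (((reflGL hQ u hu : GL ι F) : Matrix ι ι F) *ᵥ x) = Q x
  rw [reflGL_mulVec, q_reflLin hQ hu]

theorem isom_apply {g : GL ι F} (hg : g ∈ isometryGroup F Q) (v : ι → F) :
    Q ((g : Matrix ι ι F) *ᵥ v) = Q v := hg v v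

theorem omega_le_isom : omegaGL Q ≤ isometryGroup F Q := by
  rintro _ ⟨x, -, rfl⟩
  exact x.2

theorem comm_mem_omega {a b : GL ι F} (ha : a ∈ isometryGroup F Q) (hb : b ∈ isometryGroup F Q) :
    ⁅a, b⁆ ∈ omegaGL Q := by
  refine ⟨⁅(⟨a, ha⟩ : isometryGroup F Q), ⟨b, hb⟩⁆, ?_, ?_⟩
  · exact Subgroup.commutator_mem_commutator (Subgroup.mem_top _) (Subgroup.mem_top _)
  · rw [map_commutatorElement]; rfl

theorem comm_refl_mulVec (hQ : IsNondegenerateQuadraticForm Q) (u v : ι → F) (hu : Q u ≠ 0) (hv : Q v ≠ 0)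
    (w : ι → F) :
    ((⁅reflGL hQ u hu, reflGL hQ v hv⁆ : GL ι F) : Matrix ι ι F) *ᵥ w =
      reflLin hQ u (reflLin hQ v (reflLin hQ u (reflLin hQ v w))) := by
  rw [commutatorElement_def, reflGL_inv, reflGL_inv, Units.val_mul, Units.val_mul, Units.val_mul,
    ← mulVec_mulVec, ← mulVec_mulVec, ← mulVec_mulVec, reflGL_mulVec, reflGL_mulVec, reflGL_mulVec,
    reflGL_mulVec]

theorem mem_subspaceStabilizer_iff (W : Submodule F (ι → F)) (g : GL ι F) :
    g ∈ subspaceStabilizer W ↔ ∀ v, v ∈ W ↔ (g : Matrix ι ι F) *ᵥ v ∈ W := Iff.rfl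

/-- An invertible matrix fixing `x` stabilises the line spanned by `x`. -/
theorem stab_span_of_fix (g : GL ι F) (x : ι → F) (hx : (g : Matrix ι ι F) *ᵥ x = x) :
    g ∈ subspaceStabilizer (Submodule.span F {x}) := by
  rw [mem_subspaceStabilizer_iff]
  intro v
  constructor
  · intro hv
    obtain ⟨c, rfl⟩ := Submodule.mem_span_singleton.mp hv
    rw [mulVec_smul, hx]
    exact Submodule.smul_mem _ _ (Submodule.mem_span_singleton_self x)
  · intro hv
    obtain ⟨c, hc⟩ := Submodule.mem_span_singleton.mp hv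
    have h2 : (g : Matrix ι ι F) *ᵥ (c • x) = (g : Matrix ι ι F) *ᵥ v := by
      rw [mulVec_smul, hx, hc]
    have h3 := congrArg (fun z => ((g⁻¹ : GL ι F) : Matrix ι ι F) *ᵥ z) h2
    simp only [mulVec_mulVec, ← Units.val_mul, inv_mul_cancel, Units.val_one, one_mulVec] at h3
    rw [← h3]
    exact Submodule.smul_mem _ _ (Submodule.mem_span_singleton_self x)

end Cfsg.Agent.Helper94
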