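import Mathlib
import Cfsg.Prelude.Def_GeometricClasses
import Cfsg.Agent.Helper94.S43Defs
import Cfsg.Agent.Helper94.Tens
import Cfsg.Agent.Helper94.SpGen

/-!
helper94: piece RED43 of CALL S43: transport of the "Kronecker or all pure transvections"
dichotomy on `GL (Fin 4 × Fin 3) F` to the maximality of the tensor product subgroup
`Sp_4 ⊗ O_3` in `Sp_12`.
-/

set_option autoImplicit false
set_option linter.unusedVariables false

namespace Cfsg.Agent.Helper94.S43RED43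

open Matrix Cfsg.Agent.Helper71.T4 Cfsg.Agent.Helper94.S43
open Cfsg.Agent.Helper71.SO (bl)
open scoped Kronecker

theorem r43_fog {F : Type*} [Field F] {κ : Type} [Fintype κ] (G : Matrix κ κ F) (x y : κ → F) :
    Cfsg.Geo.formOfGram id G x y = x ⬝ᵥ G *ᵥ y := by
  simp only [Cfsg.Geo.formOfGram, dotProduct, Matrix.mulVec, id, Finset.mul_sum, mul_assoc]

theorem r43_J4sq {F : Type*} [Field F] : J4 F * J4 F = -1 := by
  ext i j
  fin_cases i <;> fin_cases j <;> simp [J4, Matrix.mul_apply, Fin.sum_univ_four]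

theorem r43_kron {F : Type*} [Field F] (S : Matrix (Fin 3) (Fin 3) F)
    (A : Matrix (Fin 4) (Fin 4) F) (B : Matrix (Fin 3) (Fin 3) F) (ν μ : F)
    (hA : Aᵀ * J4 F * A = ν • J4 F) (hB : Bᵀ * S * B = μ • S) (hνμ : ν * μ = 1) :
    IsSp4 S (A ⊗ₖ B) := by
  unfold IsSp4 Om4
  rw [← Matrix.kroneckerMap_transpose, ← Matrix.mul_kronecker_mul, ← Matrix.mul_kronecker_mul,
    hA, hB, Matrix.smul_kronecker, Matrix.kronecker_smul, smul_smul, hνμ, one_smul]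

theorem r43_vmv {F : Type*} [Field F] {κ : Type} [Fintype κ] (u v x : κ → F) :
    Matrix.vecMulVec u v *ᵥ x = (v ⬝ᵥ x) • u := by
  funext i
  simp only [Matrix.mulVec, dotProduct, Matrix.vecMulVec_apply, Pi.smul_apply, smul_eq_mul,
    Finset.sum_mul]
  refine Finset.sum_congr rfl fun j _ => ?_
  ring

theorem r43_ext {F : Type*} [Field F] {κ : Type} [Fintype κ] [DecidableEq κ]
    (M N : Matrix κ κ F) (h : ∀ x y : κ → F, x ⬝ᵥ M *ᵥ y = x ⬝ᵥ N *ᵥ y) : M = N := by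
  ext p q
  have := h (Pi.single p 1) (Pi.single q 1)
  simpa using this

theorem r43_conj {F : Type*} [Field F] {κ : Type} [Fintype κ] [DecidableEq κ]
    (Ω g : Matrix κ κ F) (x y : κ → F) :
    (g *ᵥ x) ⬝ᵥ Ω *ᵥ (g *ᵥ y) = x ⬝ᵥ (gᵀ * Ω * g) *ᵥ y := by
  rw [← Matrix.mulVec_mulVec, ← Matrix.mulVec_mulVec, Matrix.dotProduct_mulVec x gᵀ,
    Matrix.vecMul_transpose]

theorem r43_spm {F : Type*} [Field F] (S : Matrix (Fin 3) (Fin 3) F)
    (g : Matrix (Fin 4 × Fin 3) (Fin 4 × Fin 3) F) :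
    IsSp4 S g ↔ ∀ x y : Fin 4 × Fin 3 → F,
      (g *ᵥ x) ⬝ᵥ Om4 S *ᵥ (g *ᵥ y) = x ⬝ᵥ Om4 S *ᵥ y := by
  constructor
  · intro h x y
    rw [r43_conj, h]
  · intro h
    apply r43_ext
    intro x y
    rw [← r43_conj, h]

/-- PIECE RED43 -/
theorem red43 {F : Type*} [Field F] [Fintype F] (m : ℕ)
    (e : (Fin m ⊕ Fin m) ≃ Fin 4 × Fin 3) (P : Matrix.GeneralLinearGroup (Fin m ⊕ Fin m) F)
    (f₁ : (Fin 4 → F) → (Fin 4 → F) → F) (f₂ : (Fin 3 → F) → (Fin 3 → F) → F)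
    (h₁ : Cfsg.Geo.IsSymplecticForm f₁) (h₂ : Cfsg.Geo.IsSymmetricForm f₂)
    (hT : Cfsg.Geo.IsTensorFormStructure id (Cfsg.sympForm m F) f₁ f₂ e P)
    (hsb : ∀ G : Matrix (Fin 4) (Fin 4) F, Gᵀ = -G → (∀ i, G i i = 0) → G.det ≠ 0 →
      ∃ A : Matrix (Fin 4) (Fin 4) F, A.det ≠ 0 ∧ Aᵀ * G * A = J4 F)
    (hmain : ∀ S : Matrix (Fin 3) (Fin 3) F, Sᵀ = S → S.det ≠ 0 →
      ∀ M : Subgroup (GL (Fin 4 × Fin 3) F), SpLE4 S M → HasH4 S M →
        (∀ g ∈ M, IsKron (g : Matrix (Fin 4 × Fin 3) (Fin 4 × Fin 3) F)) ∨ TvP4 S M)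
    (hcen : ∀ S : Matrix (Fin 3) (Fin 3) F, Sᵀ = S → S.det ≠ 0 →
      ∀ C : Set (Fin 4 × Fin 3 → F),
        (∀ (a : Fin 4 → F) (s : Fin 3 → F), bl S s s = 0 → pt a s ∈ C) →
        (∀ v v' : Fin 4 × Fin 3 → F, v ∈ C → v' ∈ C → v ⬝ᵥ Om4 S *ᵥ v' ≠ 0 → v + v' ∈ C) →
        ∀ v : Fin 4 × Fin 3 → F, v ∈ C) :
    Cfsg.Geo.IsMaximalIn (Cfsg.spGL m F)
      (Cfsg.Geo.tensorProductSubgroup 4 3 e P ⊓ Cfsg.spGL m F) := by
  classical
  obtain ⟨ψ, hψ⟩ : ∃ ψ : GL (Fin 4 × Fin 3) F ≃* GL (Fin m ⊕ Fin m) F,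
      ψ = (Cfsg.Geo.glReindex e.symm).trans (MulAut.conj P) := ⟨_, rfl⟩
  have hTP : Cfsg.Geo.tensorProductSubgroup 4 3 e P
      = (Cfsg.Geo.kroneckerSubgroup 4 3 F).map ψ.toMonoidHom := by
    unfold Cfsg.Geo.tensorProductSubgroup
    rw [Subgroup.map_map, hψ]
    rfl
  have hmemT : ∀ g : GL (Fin 4 × Fin 3) F,
      ψ g ∈ Cfsg.Geo.tensorProductSubgroup 4 3 e P ↔ g ∈ Cfsg.Geo.kroneckerSubgroup 4 3 F := by
    intro g
    rw [hTP]
    constructor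
    · rintro ⟨g', hg', h⟩
      have h' : g' = g := ψ.injective h
      rwa [← h']
    · intro h
      exact ⟨g, h, rfl⟩
  have hact : ∀ (g : GL (Fin 4 × Fin 3) F) (x : Fin 4 × Fin 3 → F),
      ((ψ g : GL (Fin m ⊕ Fin m) F) : Matrix (Fin m ⊕ Fin m) (Fin m ⊕ Fin m) F)
          *ᵥ Helper94.tPhi e P x
        = Helper94.tPhi e P ((g : Matrix (Fin 4 × Fin 3) (Fin 4 × Fin 3) F) *ᵥ x) := by
    intro g x
    have h1 : ((ψ g : GL (Fin m ⊕ Fin m) F) : Matrix (Fin m ⊕ Fin m) (Fin m ⊕ Fin m) F)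
        = (P : Matrix (Fin m ⊕ Fin m) (Fin m ⊕ Fin m) F)
          * (g : Matrix (Fin 4 × Fin 3) (Fin 4 × Fin 3) F).submatrix e e
          * ((P⁻¹ : GL (Fin m ⊕ Fin m) F) : Matrix (Fin m ⊕ Fin m) (Fin m ⊕ Fin m) F) := by
      rw [hψ]
      rfl
    rw [h1, Helper94.tPhi_apply, Helper94.tPhi_apply, Matrix.mulVec_mulVec, mul_assoc, mul_assoc,
      ← Units.val_mul, inv_mul_cancel, Units.val_one, mul_one, ← Matrix.mulVec_mulVec,
      Matrix.submatrix_mulVec_equiv, Function.comp_assoc, Equiv.self_comp_symm, Function.comp_id]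
  have hsurj : ∀ w : Fin m ⊕ Fin m → F, ∃ x, Helper94.tPhi e P x = w := by
    intro w
    refine ⟨(((P⁻¹ : GL (Fin m ⊕ Fin m) F) : Matrix (Fin m ⊕ Fin m) (Fin m ⊕ Fin m) F) *ᵥ w)
      ∘ e.symm, ?_⟩
    rw [Helper94.tPhi_apply, Function.comp_assoc, Equiv.symm_comp_self, Function.comp_id,
      Matrix.mulVec_mulVec, ← Units.val_mul, mul_inv_cancel, Units.val_one, Matrix.one_mulVec]
  have hf₁ := Helper94.formOfGram_gram id f₁ h₁.bilinear.add_left h₁.bilinear.smul_left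
    h₁.bilinear.add_right h₁.bilinear.smul_right
  have hf₂ := Helper94.formOfGram_gram id f₂ h₂.bilinear.add_left h₂.bilinear.smul_left
    h₂.bilinear.add_right h₂.bilinear.smul_right
  obtain ⟨c₂, hc₂, hval⟩ := Helper94.tens_val id (fun r s => rfl) (Cfsg.sympForm m F) f₁ f₂
    hf₁ hf₂ e P hT
  obtain ⟨c, hc, hform⟩ := hT
  -- the Gram matrix of `f₁` and its symplectic basis
  obtain ⟨G₁, hG₁def⟩ : ∃ G₁ : Matrix (Fin 4) (Fin 4) F, G₁ = Cfsg.Geo.gramMatrix f₁ := ⟨_, rfl⟩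
  have hG₁skew : G₁ᵀ = -G₁ := by
    ext i j
    rw [hG₁def]
    exact h₁.skew _ _
  have hG₁diag : ∀ i, G₁ i i = 0 := by
    intro i
    rw [hG₁def]
    exact h₁.alternating _
  have hG₁bl : ∀ x y, x ⬝ᵥ G₁ *ᵥ y = f₁ x y := by
    intro x y
    rw [← hf₁, r43_fog, hG₁def]
  have hG₁det : G₁.det ≠ 0 := by
    intro h0
    obtain ⟨v, hv, hGv⟩ := Matrix.exists_mulVec_eq_zero_iff.mpr h0
    obtain ⟨⟨x, hx⟩, -⟩ := h₁.nondegenerate v hv
    apply hx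
    rw [← hG₁bl, hGv, dotProduct_zero]
  obtain ⟨A₀, hA₀det, hA₀⟩ := hsb G₁ hG₁skew hG₁diag hG₁det
  obtain ⟨S, hSdef⟩ : ∃ S : Matrix (Fin 3) (Fin 3) F, S = Cfsg.Geo.gramMatrix f₂ := ⟨_, rfl⟩
  have hS : Sᵀ = S := by
    ext i j
    rw [hSdef]
    exact h₂.symm _ _
  have hbl : ∀ x y, bl S x y = f₂ x y := by
    intro x y
    rw [← hf₂, r43_fog, hSdef]
    rfl
  have hSdet : S.det ≠ 0 := by
    intro h0
    obtain ⟨v, hv, hSv⟩ := Matrix.exists_mulVec_eq_zero_iff.mpr h0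
    obtain ⟨⟨x, hx⟩, -⟩ := h₂.nondegenerate v hv
    apply hx
    rw [← hbl]
    unfold bl
    rw [hSv, dotProduct_zero]
  -- the change of coordinates `A₀ ⊗ 1`
  have hK₀det : (A₀ ⊗ₖ (1 : Matrix (Fin 3) (Fin 3) F)).det ≠ 0 := by
    rw [Matrix.det_kronecker, Matrix.det_one, one_pow, mul_one]
    exact pow_ne_zero _ hA₀det
  obtain ⟨k₀, hk₀⟩ : ∃ k₀ : GL (Fin 4 × Fin 3) F,
      (k₀ : Matrix (Fin 4 × Fin 3) (Fin 4 × Fin 3) F) = A₀ ⊗ₖ (1 : Matrix (Fin 3) (Fin 3) F) :=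
    ⟨Matrix.GeneralLinearGroup.mkOfDetNeZero _ hK₀det, rfl⟩
  have hk₀K : k₀ ∈ Cfsg.Geo.kroneckerSubgroup 4 3 F :=
    ⟨Matrix.GeneralLinearGroup.mkOfDetNeZero A₀ hA₀det, 1, by rw [hk₀]; rfl⟩
  obtain ⟨ψ', hψ'⟩ : ∃ ψ' : GL (Fin 4 × Fin 3) F ≃* GL (Fin m ⊕ Fin m) F,
      ∀ g, ψ' g = ψ (k₀ * g * k₀⁻¹) := ⟨(MulAut.conj k₀).trans ψ, fun g => rfl⟩
  obtain ⟨Φ, hΦ⟩ : ∃ Φ : (Fin 4 × Fin 3 → F) →ₗ[F] (Fin m ⊕ Fin m → F),
      ∀ x, Φ x = Helper94.tPhi e P ((k₀ : Matrix (Fin 4 × Fin 3) (Fin 4 × Fin 3) F) *ᵥ x) :=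
    ⟨(Helper94.tPhi e P).comp (Matrix.mulVecLin (k₀ : Matrix (Fin 4 × Fin 3) (Fin 4 × Fin 3) F)),
      fun x => rfl⟩
  have hmemT' : ∀ g : GL (Fin 4 × Fin 3) F,
      ψ' g ∈ Cfsg.Geo.tensorProductSubgroup 4 3 e P ↔ g ∈ Cfsg.Geo.kroneckerSubgroup 4 3 F := by
    intro g
    rw [hψ', hmemT]
    constructor
    · intro h
      have h2 := (Cfsg.Geo.kroneckerSubgroup 4 3 F).mul_mem
        ((Cfsg.Geo.kroneckerSubgroup 4 3 F).mul_mem
          ((Cfsg.Geo.kroneckerSubgroup 4 3 F).inv_mem hk₀K) h) hk₀K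
      have h3 : k₀⁻¹ * (k₀ * g * k₀⁻¹) * k₀ = g := by group
      rwa [h3] at h2
    · intro h
      exact (Cfsg.Geo.kroneckerSubgroup 4 3 F).mul_mem
        ((Cfsg.Geo.kroneckerSubgroup 4 3 F).mul_mem hk₀K h)
        ((Cfsg.Geo.kroneckerSubgroup 4 3 F).inv_mem hk₀K)
  have hact' : ∀ (g : GL (Fin 4 × Fin 3) F) (x : Fin 4 × Fin 3 → F),
      ((ψ' g : GL (Fin m ⊕ Fin m) F) : Matrix (Fin m ⊕ Fin m) (Fin m ⊕ Fin m) F) *ᵥ Φ x
        = Φ ((g : Matrix (Fin 4 × Fin 3) (Fin 4 × Fin 3) F) *ᵥ x) := by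
    intro g x
    have hkk : ((k₀ * g * k₀⁻¹ : GL (Fin 4 × Fin 3) F) :
        Matrix (Fin 4 × Fin 3) (Fin 4 × Fin 3) F)
          * (k₀ : Matrix (Fin 4 × Fin 3) (Fin 4 × Fin 3) F)
        = (k₀ : Matrix (Fin 4 × Fin 3) (Fin 4 × Fin 3) F)
          * (g : Matrix (Fin 4 × Fin 3) (Fin 4 × Fin 3) F) := by
      rw [← Units.val_mul, ← Units.val_mul]
      congr 1
      group
    rw [hψ', hΦ, hΦ, hact, Matrix.mulVec_mulVec, hkk, ← Matrix.mulVec_mulVec]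
  have hsurj' : ∀ w : Fin m ⊕ Fin m → F, ∃ x, Φ x = w := by
    intro w
    obtain ⟨y, rfl⟩ := hsurj w
    refine ⟨((k₀⁻¹ : GL (Fin 4 × Fin 3) F) : Matrix (Fin 4 × Fin 3) (Fin 4 × Fin 3) F) *ᵥ y, ?_⟩
    rw [hΦ, Matrix.mulVec_mulVec, ← Units.val_mul, mul_inv_cancel, Units.val_one,
      Matrix.one_mulVec]
  have hκ : ∀ x y : Fin 4 × Fin 3 → F,
      Cfsg.sympForm m F (Φ x) (Φ y) = c * (x ⬝ᵥ Om4 S *ᵥ y) := by
    intro x y
    have hOm : (k₀ : Matrix (Fin 4 × Fin 3) (Fin 4 × Fin 3) F)ᵀ * (G₁ ⊗ₖ S)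
        * (k₀ : Matrix (Fin 4 × Fin 3) (Fin 4 × Fin 3) F) = Om4 S := by
      rw [hk₀, ← Matrix.kroneckerMap_transpose, ← Matrix.mul_kronecker_mul,
        ← Matrix.mul_kronecker_mul, hA₀, Matrix.transpose_one, Matrix.one_mul, Matrix.mul_one]
      rfl
    rw [hΦ, hΦ, Helper94.tPhi_apply, Helper94.tPhi_apply, hform, r43_fog, ← hG₁def, ← hSdef,
      r43_conj, hOm]
  have hmemS : ∀ g : GL (Fin 4 × Fin 3) F, ψ' g ∈ Cfsg.spGL m F
      ↔ IsSp4 S (g : Matrix (Fin 4 × Fin 3) (Fin 4 × Fin 3) F) := by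
    intro g
    rw [Helper94.mem_spGL_iff, r43_spm]
    constructor
    · intro h x y
      have := h (Φ x) (Φ y)
      rw [hact', hact', hκ, hκ] at this
      exact mul_left_cancel₀ hc this
    · intro h u v
      obtain ⟨x, rfl⟩ := hsurj' u
      obtain ⟨y, rfl⟩ := hsurj' v
      rw [hact', hact', hκ, hκ, h]
  have hc1 : Fintype.card (Fin 4) ≠ 0 := by
    rw [Fintype.card_fin]; omega
  have hc2 : Fintype.card (Fin 3) ≠ 0 := by
    rw [Fintype.card_fin]; omega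
  have hJ4inj : ∀ v : Fin 4 → F, J4 F *ᵥ v = 0 → v = 0 := by
    intro v hv
    have h1 : (J4 F * J4 F) *ᵥ v = 0 := by
      rw [← Matrix.mulVec_mulVec, hv, Matrix.mulVec_zero]
    rw [r43_J4sq, Matrix.neg_mulVec, Matrix.one_mulVec, neg_eq_zero] at h1
    exact h1
  constructor
  · -- the tensor product group is proper in `Sp`
    rw [SetLike.lt_iff_le_and_exists]
    refine ⟨inf_le_right, ?_⟩
    obtain ⟨a₀, ha₀⟩ : ∃ a₀ : Fin 4 → F, a₀ = Pi.single 0 1 := ⟨_, rfl⟩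
    obtain ⟨a₁, ha₁⟩ : ∃ a₁ : Fin 4 → F, a₁ = Pi.single 1 1 := ⟨_, rfl⟩
    obtain ⟨u₀, hu₀⟩ : ∃ u₀ : Fin 3 → F, u₀ = Pi.single 0 1 := ⟨_, rfl⟩
    obtain ⟨u₁, hu₁⟩ : ∃ u₁ : Fin 3 → F, u₁ = Pi.single 1 1 := ⟨_, rfl⟩
    refine ⟨Helper94.stGL (Helper94.tPhi e P (Helper94.tpv a₀ u₀)) 1, Helper94.stGL_mem _ _,
      fun hmem => ?_⟩
    obtain ⟨A, B, hAB⟩ := Helper94.tens_mem_act e P _ hmem.1
    have hstar : ∀ (a' : Fin 4 → F) (y : Fin 3 → F) (i : Fin 4) (k : Fin 3),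
        ((A : Matrix (Fin 4) (Fin 4) F) *ᵥ a') i * ((B : Matrix (Fin 3) (Fin 3) F) *ᵥ y) k
          = a' i * y k + (c₂ * (f₁ a' a₀ * f₂ y u₀)) * (a₀ i * u₀ k) := by
      intro a' y i k
      have h1 := hAB (Helper94.tpv a' y)
      rw [Helper94.stGL_mulVec, one_mul, hval, ← map_smul, ← map_add, Helper94.tpv_kron] at h1
      have h3 := congrFun (Helper94.tPhi_injective e P h1) (i, k)
      simp only [Helper94.tpv, Pi.add_apply, Pi.smul_apply, smul_eq_mul] at h3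
      exact h3.symm
    -- `B` is scalar
    have hB : ∀ (y : Fin 3 → F) (k : Fin 3),
        ((A : Matrix (Fin 4) (Fin 4) F) *ᵥ a₁) 1 * ((B : Matrix (Fin 3) (Fin 3) F) *ᵥ y) k
          = y k := by
      intro y k
      have := hstar a₁ y 1 k
      rw [ha₁, ha₀] at this
      rw [ha₁]
      simpa using this
    obtain ⟨γ, hγ⟩ : ∃ γ : F, γ = ((A : Matrix (Fin 4) (Fin 4) F) *ᵥ a₁) 1 := ⟨_, rfl⟩
    rw [← hγ] at hB
    have hγ0 : γ ≠ 0 := by
      intro h0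
      have := hB u₁ 1
      rw [h0, zero_mul, hu₁] at this
      simp at this
    have hBy : ∀ (y : Fin 3 → F) (k : Fin 3),
        ((B : Matrix (Fin 3) (Fin 3) F) *ᵥ y) k = γ⁻¹ * y k := by
      intro y k
      rw [← hB y k, ← mul_assoc, inv_mul_cancel₀ hγ0, one_mul]
    -- the first coordinate
    have hA0 : ∀ a' : Fin 4 → F, ((A : Matrix (Fin 4) (Fin 4) F) *ᵥ a') 0 * γ⁻¹ = a' 0 := by
      intro a'
      have h1 := hstar a' u₁ 0 1
      rw [hBy, hu₁, hu₀] at h1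
      simpa using h1
    obtain ⟨⟨a', ha'⟩, -⟩ := h₁.nondegenerate a₀ (by
      rw [ha₀]
      intro h
      have := congrFun h 0
      simp at this)
    obtain ⟨⟨y, hy⟩, -⟩ := h₂.nondegenerate u₀ (by
      rw [hu₀]
      intro h
      have := congrFun h 0
      simp at this)
    have h5 := hstar a' y 0 0
    rw [hBy, ← mul_assoc, hA0, ha₀, hu₀] at h5
    simp only [Pi.single_eq_same, mul_one] at h5
    have h6 : c₂ * (f₁ a' (Pi.single 0 1) * f₂ y (Pi.single 0 1)) = 0 := by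
      have := h5
      rw [left_eq_add] at this
      exact this
    rw [ha₀] at ha'
    rw [hu₀] at hy
    exact mul_ne_zero hc₂ (mul_ne_zero ha' hy) h6
  · intro K hHK hKS
    have hSp : SpLE4 S (K.comap ψ'.toMonoidHom) := by
      intro g hg
      exact (hmemS g).mp (hKS hg)
    have hH : HasH4 S (K.comap ψ'.toMonoidHom) := by
      intro A B ν μ hA hB hνμ
      have hμ : μ ≠ 0 := by
        rintro rfl
        rw [mul_zero] at hνμ
        exact zero_ne_one hνμ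
      have hν : ν ≠ 0 := by
        rintro rfl
        rw [zero_mul] at hνμ
        exact zero_ne_one hνμ
      have hAdet : A.det ≠ 0 := by
        intro h
        obtain ⟨v, hv, hAv⟩ := Matrix.exists_mulVec_eq_zero_iff.mpr h
        apply hv
        apply hJ4inj
        have h1 : (Aᵀ * J4 F * A) *ᵥ v = 0 := by
          rw [← Matrix.mulVec_mulVec, hAv, Matrix.mulVec_zero]
        rw [hA, Matrix.smul_mulVec] at h1
        exact (smul_eq_zero.mp h1).resolve_left hν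
      have hBdet : B.det ≠ 0 := by
        intro h
        have h1 := congrArg Matrix.det hB
        rw [Matrix.det_mul, Matrix.det_mul, Matrix.det_transpose, h, zero_mul, zero_mul,
          Matrix.det_smul] at h1
        exact (mul_ne_zero (pow_ne_zero _ hμ) hSdet) h1.symm
      have hdetAB : (A ⊗ₖ B).det ≠ 0 := by
        rw [Matrix.det_kronecker]
        exact mul_ne_zero (pow_ne_zero _ hAdet) (pow_ne_zero _ hBdet)
      refine ⟨Matrix.GeneralLinearGroup.mkOfDetNeZero (A ⊗ₖ B) hdetAB, ?_, rfl⟩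
      show ψ' (Matrix.GeneralLinearGroup.mkOfDetNeZero (A ⊗ₖ B) hdetAB) ∈ K
      apply hHK
      refine ⟨(hmemT' _).mpr ⟨Matrix.GeneralLinearGroup.mkOfDetNeZero A hAdet,
        Matrix.GeneralLinearGroup.mkOfDetNeZero B hBdet, rfl⟩, (hmemS _).mpr ?_⟩
      exact r43_kron S A B ν μ hA hB hνμ
    rcases hmain S hS hSdet _ hSp hH with hk | htv
    · left
      apply le_antisymm _ hHK
      intro k hk'
      obtain ⟨g, rfl⟩ := ψ'.surjective k
      obtain ⟨A, B, hAB⟩ := hk g hk'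
      have hdetg : (g : Matrix (Fin 4 × Fin 3) (Fin 4 × Fin 3) F).det ≠ 0 :=
        ((Matrix.isUnit_iff_isUnit_det _).1 g.isUnit).ne_zero
      rw [hAB, Matrix.det_kronecker] at hdetg
      have hA : A.det ≠ 0 := by
        intro h
        apply hdetg
        rw [h, zero_pow hc2, zero_mul]
      have hB : B.det ≠ 0 := by
        intro h
        apply hdetg
        rw [h, zero_pow hc1, mul_zero]
      exact ⟨(hmemT' g).mpr ⟨Matrix.GeneralLinearGroup.mkOfDetNeZero A hA,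
        Matrix.GeneralLinearGroup.mkOfDetNeZero B hB, hAB⟩, hKS hk'⟩
    · right
      apply le_antisymm hKS
      apply Helper94.spGL_le_of_tvCentres
      have hC := hcen S hS hSdet {v | Φ v ∈ Helper94.tvCentres K} ?_ ?_
      · intro w
        obtain ⟨x, rfl⟩ := hsurj' w
        exact hC x
      · intro a s hs c₀
        obtain ⟨g, hgM, hg⟩ := htv a s (c₀ * c) hs
        have hgK : ψ' g ∈ K := hgM
        have heq : ψ' g = Helper94.stGL (Φ (pt a s)) c₀ := by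
          apply Helper94.gl_ext
          intro w
          obtain ⟨x, rfl⟩ := hsurj' w
          rw [hact', hg, Helper94.stGL_mulVec, hκ, Matrix.add_mulVec, Matrix.one_mulVec,
            Matrix.smul_mulVec, r43_vmv, map_add, map_smul, map_smul, smul_smul,
            dotProduct_comm (Om4 S *ᵥ pt a s) x, mul_assoc]
        rw [← heq]
        exact hgK
      · intro v v' hv hv' hne
        have := Helper94.tvCentres_line K hv hv' (by rw [hκ]; exact mul_ne_zero hc hne) 1 1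
        rw [one_smul, one_smul, ← map_add] at this
        exact this

end Cfsg.Agent.Helper94.S43RED43
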