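import Mathlib
import Cfsg.Prelude.Def_GeometricClasses
import Cfsg.Prelude.Def_Classical
import Cfsg.Agent.Helper65.S74Defs
import Cfsg.Agent.Helper98.ELPMain
import Cfsg.Agent.Helper36.AltEven
import Cfsg.Agent.Helper96.OHDefs
import Cfsg.Agent.Helper35.TSSTDP

set_option autoImplicit false

/-!
# CALL S74 (helper65), stage T2B (`r = p = 2`, `⟹`) of row S5974 - whole stage by helper94

Bad element for `d` even: the Siegel element `x = [[1, A], [0, 1]]`, `A = T₀ - T₀ᵀ` invertible.
`N = x - 1` has `N ∘ N = 0`, `ker N = {inr-part = 0}` totally singular, `polar w (N w) = 0`.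
Abstract core `t2b_four_dvd`: a space `W` with a nondegenerate alternating form `B` and an
endomorphism `h` with `h ∘ h = 0`, `B v (h v) = 0`, `ker h` totally isotropic has `4 ∣ dim W`.
-/

namespace Cfsg.Agent.Helper94.S74

open Module Cfsg Cfsg.Geo Cfsg.Agent.Helper65.S74
open scoped MatrixGroups

/-- abstract core: `4 ∣ dim W`. -/
theorem t2b_four_dvd {F : Type*} [Field F] {W : Type*} [AddCommGroup W] [Module F W]
    [FiniteDimensional F W]
    (B : LinearMap.BilinForm F W) (halt : ∀ v, B v v = 0) (hnd : ∀ v, (∀ w, B v w = 0) → v = 0)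
    (h : W →ₗ[F] W) (hh : ∀ v, h (h v) = 0) (hB : ∀ v, B v (h v) = 0)
    (hK : ∀ u v, h u = 0 → h v = 0 → B u v = 0) : 4 ∣ finrank F W := by
  classical
  have hskew : ∀ u v, B u v = - B v u := by
    intro u v
    have h1 := halt (u + v)
    simp only [map_add, LinearMap.add_apply, halt, zero_add, add_zero] at h1
    exact eq_neg_of_add_eq_zero_right h1
  have hND : B.Nondegenerate := by
    refine ⟨?_, ?_⟩
    · intro v hv
      exact hnd v hv
    · intro w hw
      apply hnd w
      intro v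
      rw [hskew, hw v, neg_zero]
  have hRK : LinearMap.range h ≤ LinearMap.ker h := by
    rintro _ ⟨v, rfl⟩
    exact LinearMap.mem_ker.2 (hh v)
  have hrn : finrank F (LinearMap.range h) + finrank F (LinearMap.ker h) = finrank F W :=
    LinearMap.finrank_range_add_finrank_ker h
  have hKK : LinearMap.ker h ≤ B.orthogonal (LinearMap.ker h) := by
    intro u hu
    rw [LinearMap.BilinForm.mem_orthogonal_iff]
    intro n hn
    exact hK n u (LinearMap.mem_ker.1 hn) (LinearMap.mem_ker.1 hu)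
  have hKR : LinearMap.ker h ≤ B.orthogonal (LinearMap.range h) := by
    intro u hu
    rw [LinearMap.BilinForm.mem_orthogonal_iff]
    intro n hn
    exact hK n u (LinearMap.mem_ker.1 (hRK hn)) (LinearMap.mem_ker.1 hu)
  have h1 := LinearMap.BilinForm.finrank_orthogonal hND (LinearMap.ker h)
  have h2 := Submodule.finrank_mono hKK
  have h3 := Submodule.finrank_mono hRK
  have h4 := LinearMap.BilinForm.finrank_orthogonal hND (LinearMap.range h)
  have hKeq : LinearMap.ker h = B.orthogonal (LinearMap.range h) :=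
    Submodule.eq_of_le_of_finrank_le hKR (by omega)
  obtain ⟨C, hC⟩ := Submodule.exists_isCompl (LinearMap.ker h)
  have h5 := Submodule.finrank_add_eq_of_isCompl hC
  have hev : Even (finrank F C) := by
    refine Cfsg.Agent.Helper36.even_finrank_of_alt (finrank F C) C
      ((B.compl₂ h).domRestrict₁₂ C C) ?_ ?_ rfl
    · intro v
      exact hB v
    · intro u hu
      have hu' : (u : W) ∈ LinearMap.ker h := by
        rw [hKeq, LinearMap.BilinForm.mem_orthogonal_iff]
        rintro _ ⟨w, rfl⟩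
        rw [hskew]
        have hw : w ∈ LinearMap.ker h ⊔ C := by
          rw [hC.sup_eq_top]
          trivial
        obtain ⟨k, hk, c, hc, rfl⟩ := Submodule.mem_sup.1 hw
        rw [map_add, LinearMap.mem_ker.1 hk, zero_add]
        have h6 : B (u : W) (h c) = 0 := hu ⟨c, hc⟩
        rw [h6, neg_zero]
      have h7 : (u : W) ∈ LinearMap.ker h ⊓ C := ⟨hu', u.2⟩
      rw [hC.inf_eq_bot] at h7
      exact Subtype.ext ((Submodule.mem_bot F).1 h7)
  obtain ⟨t, ht⟩ := hev
  exact ⟨t, by omega⟩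

open Cfsg.Agent.Helper98.ELP in
/-- `T₀ - T₀ᵀ` has trivial kernel when `d` is even. -/
theorem t2b_t0_inj {F : Type*} [Field F] (d : ℕ) (hd : Even d) (v : Fin d → F)
    (h : Matrix.mulVec (t0 d F - (t0 d F).transpose) v = 0) : v = 0 := by
  obtain ⟨e, he⟩ := hd
  have hA : ∀ a b : Fin d, (t0 d F - (t0 d F).transpose) a b =
      (if ((a : ℕ) < d / 2 ∧ (a : ℕ) + d / 2 = (b : ℕ)) then (1 : F) else 0) -
        (if ((b : ℕ) < d / 2 ∧ (b : ℕ) + d / 2 = (a : ℕ)) then (1 : F) else 0) := fun a b => rfl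
  have key : ∀ a c : Fin d, ((c : ℕ) + e = (a : ℕ) ∨ (a : ℕ) + e = (c : ℕ)) → v c = 0 := by
    intro a c hac
    have ha := a.2
    have hc := c.2
    have h1 := congrFun h a
    rw [Matrix.mulVec, dotProduct, Finset.sum_eq_single c] at h1
    · rw [hA] at h1
      rcases hac with hac | hac
      · have hc1 : ¬ ((a : ℕ) < d / 2 ∧ (a : ℕ) + d / 2 = (c : ℕ)) := by omega
        have hc2 : ((c : ℕ) < d / 2 ∧ (c : ℕ) + d / 2 = (a : ℕ)) := by omega
        rw [if_neg hc1, if_pos hc2] at h1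
        simpa using h1
      · have hc1 : ((a : ℕ) < d / 2 ∧ (a : ℕ) + d / 2 = (c : ℕ)) := by omega
        have hc2 : ¬ ((c : ℕ) < d / 2 ∧ (c : ℕ) + d / 2 = (a : ℕ)) := by omega
        rw [if_pos hc1, if_neg hc2] at h1
        simpa using h1
    · intro b _ hbc
      have hb := b.2
      have hbc' : (b : ℕ) ≠ (c : ℕ) := fun hh => hbc (Fin.ext hh)
      have hc1 : ¬ ((a : ℕ) < d / 2 ∧ (a : ℕ) + d / 2 = (b : ℕ)) := by omega
      have hc2 : ¬ ((b : ℕ) < d / 2 ∧ (b : ℕ) + d / 2 = (a : ℕ)) := by omega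
      rw [hA, if_neg hc1, if_neg hc2, sub_zero, zero_mul]
    · intro hh
      exact absurd (Finset.mem_univ c) hh
  funext c
  have hc := c.2
  by_cases hce : (c : ℕ) < e
  · exact key ⟨(c : ℕ) + e, by omega⟩ c (Or.inl rfl)
  · exact key ⟨(c : ℕ) - e, by omega⟩ c (Or.inr (by show (c : ℕ) - e + e = (c : ℕ); omega))

/-- `yᵀ (T - Tᵀ) y = 0`. -/
theorem t2b_alt {n : Type} [Fintype n] {F : Type*} [Field F] (T : Matrix n n F) (y : n → F) :
    dotProduct (Matrix.mulVec (T - T.transpose) y) y = 0 := by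
  rw [Matrix.sub_mulVec, sub_dotProduct, Matrix.mulVec_transpose, ← Matrix.dotProduct_mulVec,
    dotProduct_comm, sub_self]

variable {F : Type*} [Field F] [Fintype F]

open Cfsg.Agent.Helper98.ELP in
/-- T2B (`r = p = 2`, `⟹`) of row S5974, statement verbatim from `tools/calls/S74Skel.lean.txt`. -/
theorem s74_two_even_bad {p : ℕ} [Fact p.Prime] [CharP F p] {q : ℕ} (hq : Fintype.card F = q)
    (d m : ℕ) (hd : 4 ≤ d) (hm : 2 ≤ m) (hme : Even m) (hmd : m < d) (hp2 : p = 2)
    (hall : AllHyp (Cfsg.quadFormPlus d F) 2 m) :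
    (2 * d) % 4 = 2 ∨ m % 4 = 0 ∨ q % 4 = 1 := by
  classical
  subst hp2
  by_contra hcon
  push Not at hcon
  obtain ⟨h2d, hm4, -⟩ := hcon
  have hde : Even d := by
    rcases Nat.even_or_odd d with h | ⟨k, hk⟩
    · exact h
    · omega
  have hQ : IsNondegenerateQuadraticForm (Cfsg.quadFormPlus d F) :=
    (Cfsg.Agent.Helper35.TS5973.ts_std_plus (F := F) d).1
  have h2F : (2 : F) = 0 := CharTwo.two_eq_zero
  -- the bad element
  have hAne : t0 d F - (t0 d F).transpose ≠ 0 := by
    intro h0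
    have h1 := t2b_t0_inj (F := F) d hde (fun _ => 1) (by rw [h0, Matrix.zero_mulVec])
    have h2 := congrFun h1 ⟨0, by omega⟩
    simp at h2
  have hmem : sieg (t0 d F) ∈ Cfsg.Geo.omegaGL (Cfsg.quadFormPlus d F) := by
    have h1 := sieg_mem_omega (n := Fin d) (F := F) (by rw [Fintype.card_fin]; omega) (t0 d F)
    rwa [qp_fin] at h1
  have hsq : ∃ z : F, ((sieg (t0 d F) ^ 2 : GL (Fin d ⊕ Fin d) F) :
      Matrix (Fin d ⊕ Fin d) (Fin d ⊕ Fin d) F) = z • (1 : Matrix (Fin d ⊕ Fin d) (Fin d ⊕ Fin d) F) := by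
    refine ⟨1, ?_⟩
    have h0 : t0 d F + t0 d F = 0 := by
      ext a b
      rw [Matrix.add_apply, ← two_mul, h2F, zero_mul]
      rfl
    rw [pow_two, sieg_mul, h0, sieg_zero, one_smul]
    rfl
  obtain ⟨W, ⟨hWm, hWnd, -⟩, hWinv⟩ := hall (sieg (t0 d F)) hmem hsq (sieg_nonscalar (t0 d F) hAne)
  -- the nilpotent part
  set N : (Fin d ⊕ Fin d → F) →ₗ[F] (Fin d ⊕ Fin d → F) :=
    Matrix.toLin' ((sieg (t0 d F) : GL (Fin d ⊕ Fin d) F) :
      Matrix (Fin d ⊕ Fin d) (Fin d ⊕ Fin d) F) - LinearMap.id with hNdef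
  have hNL : ∀ (w : Fin d ⊕ Fin d → F) (i : Fin d),
      N w (Sum.inl i) = Matrix.mulVec (t0 d F - (t0 d F).transpose) (w ∘ Sum.inr) i := by
    intro w i
    rw [hNdef, LinearMap.sub_apply, Matrix.toLin'_apply, sieg_coe, siegM, Matrix.fromBlocks_mulVec]
    simp
  have hNR : ∀ (w : Fin d ⊕ Fin d → F) (i : Fin d), N w (Sum.inr i) = 0 := by
    intro w i
    rw [hNdef, LinearMap.sub_apply, Matrix.toLin'_apply, sieg_coe, siegM, Matrix.fromBlocks_mulVec]
    simp
  have hNN : ∀ w, N (N w) = 0 := by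
    intro w
    funext j
    rcases j with i | i
    · rw [hNL]
      have h0 : (N w) ∘ Sum.inr = 0 := by
        funext k
        exact hNR w k
      rw [h0, Matrix.mulVec_zero]
      rfl
    · rw [hNR]
      rfl
  have hpol : ∀ w, QuadraticMap.polar (Cfsg.quadFormPlus d F) w (N w) = 0 := by
    intro w
    have h1 := t2b_alt (t0 d F) (w ∘ Sum.inr)
    rw [dotProduct] at h1
    rw [QuadraticMap.polar]
    simp only [Cfsg.quadFormPlus, Pi.add_apply, hNR, hNL, add_zero, mul_zero, Finset.sum_const_zero,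
      sub_zero]
    simp only [add_mul, Finset.sum_add_distrib]
    rw [add_sub_cancel_left]
    exact h1
  have hker : ∀ u v, N u = 0 → N v = 0 → QuadraticMap.polar (Cfsg.quadFormPlus d F) u v = 0 := by
    intro u v hu hv
    have hu0 : u ∘ Sum.inr = 0 := by
      apply t2b_t0_inj (F := F) d hde
      funext i
      rw [← hNL, hu]
      rfl
    have hv0 : v ∘ Sum.inr = 0 := by
      apply t2b_t0_inj (F := F) d hde
      funext i
      rw [← hNL, hv]
      rfl
    have hu1 : ∀ i, u (Sum.inr i) = 0 := fun i => congrFun hu0 i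
    have hv1 : ∀ i, v (Sum.inr i) = 0 := fun i => congrFun hv0 i
    rw [QuadraticMap.polar]
    simp [Cfsg.quadFormPlus, hu1, hv1]
  have hNW : ∀ w ∈ W, N w ∈ W := by
    intro w hw
    rw [hNdef, LinearMap.sub_apply]
    exact W.sub_mem (hWinv (Submodule.mem_map_of_mem hw)) hw
  have h4 : 4 ∣ finrank F W := by
    refine t2b_four_dvd ((Cfsg.Agent.Helper96.OH.pB (Cfsg.quadFormPlus d F) hQ).restrict W) ?_ ?_
      (N.restrict hNW) ?_ ?_ ?_
    · intro v
      show Cfsg.Agent.Helper96.OH.pB (Cfsg.quadFormPlus d F) hQ (v : Fin d ⊕ Fin d → F) v = 0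
      rw [Cfsg.Agent.Helper96.OH.pB_self, h2F, zero_mul]
    · intro v hv
      by_contra hne
      have hne' : (v : Fin d ⊕ Fin d → F) ≠ 0 := fun h0 => hne (Subtype.ext h0)
      obtain ⟨w, hw, hvw⟩ := hWnd v v.2 hne'
      exact hvw (hv ⟨w, hw⟩)
    · intro v
      apply Subtype.ext
      exact hNN v
    · intro v
      exact hpol v
    · intro u v hu hv
      exact hker u v (congrArg Subtype.val hu) (congrArg Subtype.val hv)
  rw [hWm] at h4
  omega

end Cfsg.Agent.Helper94.S74
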