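import Mathlib
import Cfsg.Prelude.Def_GeometricClasses
import Cfsg.Prelude.Def_Classical
import Cfsg.Agent.Helper35.S88Defs
import Cfsg.Agent.Helper94.S88NDIVModel
import Cfsg.Agent.Helper96.OHAll
import Cfsg.Agent.Helper86.ELCNTCore
import Cfsg.Agent.Helper37.OHOFIXCONGR
import Cfsg.Agent.Helper88.OEEBADDIRcore
import Cfsg.Agent.Helper31.OHOFIX

set_option autoImplicit false

/-!
# CALL S88 (row S5988; top architect helper90) - hypothesis stage NDIV (helper94)

`s88_ndiv`, statement verbatim from `tools/calls/S88HypSkel.lean.txt`.  The element `S` with maximal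
profile (`ndiv_maxel`, file `S88NDIVModel`) has fixed space `K` of dimension `< c` containing an
elliptic `m`-space; every `S`-invariant elliptic `m`-space lies in `K` (`oall_cdvd`, `m < c`); the
fixed-point congruence (`o_fix_congr`) transports the divisibility to the elliptic `m`-subspaces
of `K`; Cauchy in the group of isometries fixing the perp of `K` (`el_cnt_core`) gives a
nontrivial isometry of order `r` moving only a space of dimension `< c`, against `oall_cdvd`.
-/

namespace Cfsg.Agent.Helper94.S88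

open Module Cfsg Cfsg.Geo Cfsg.Agent.Helper35.S88
open scoped MatrixGroups

variable {ι : Type} [Fintype ι] [DecidableEq ι] {F : Type*} [Field F] [Fintype F]

theorem s88_ndiv {p : ℕ} [Fact p.Prime] [CharP F p] {q : ℕ} (hq : Fintype.card F = q)
    (Q : (ι → F) → F) (hQ : IsNondegenerateQuadraticForm Q) (d m : ℕ)
    (hcard : Fintype.card ι = 2 * d) (hplus : IsPlusTypeOn Q ⊤)
    (hm : 2 ≤ m) (hme : Even m) (hmd : m < d) (r : ℕ) [Fact r.Prime] (hr2 : 2 < r) (hrp : r ≠ p)
    (i c : ℕ) (hi : i = orderOf (q : ZMod r)) (hc : c = if Even i then i else 2 * i)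
    (hmc : m < c) (hcd : c ≤ 2 * d)
    (hk : m < (2 * d) % c ∨ (Even i ∧ m = (2 * d) % c ∧ Odd ((2 * d) / i))) :
    ¬ r ∣ Nat.card {W : Submodule F (ι → F) // Module.finrank F ↥W = m ∧
      IsNondegenerateOn (QuadraticMap.polar Q) W ∧ ¬ IsPlusTypeOn Q W} := by
  classical
  have hrpr : r.Prime := Fact.out
  subst hq
  have hrF : (r : F) ≠ 0 := Cfsg.Agent.Helper43.CycFactors.natCast_ne_zero_of_ne (p := p) hrpr hrp
  obtain ⟨S, hS, hSr, hfin, W₀, hW₀, hW₀K⟩ :=
    ndiv_maxel Q hQ d m hcard hplus hm hme r hr2 hrp i c hi hc hk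
  have hSP : Cfsg.Agent.Helper96.OH.OPres Q S := hS
  intro hdiv
  have hcpos : 0 < c := by omega
  have hklt : (2 * d) % c < c := Nat.mod_lt _ hcpos
  have hfV : finrank F (ι → F) = 2 * d := by
    rw [Module.finrank_fintype_fun_eq_card, hcard]
  -- invariant elliptic `m`-spaces lie in the fixed space
  have hin : ∀ W : Submodule F (ι → F),
      (finrank F W = m ∧ IsNondegenerateOn (QuadraticMap.polar Q) W ∧ ¬ IsPlusTypeOn Q W) →
      W.map S ≤ W → W ≤ LinearMap.ker (S - 1) := by
    intro W hW hWT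
    have h4 := Cfsg.Agent.Helper96.OHAll.oall_cdvd Q hQ S hSP r hr2 hrF hSr i c hi hc W hWT hW.2.1
    rw [hW.1] at h4
    have h5 : finrank F (W ⊓ LinearMap.ker (S - 1) : Submodule F (ι → F)) ≤ finrank F W :=
      Submodule.finrank_mono inf_le_left
    have h6 := Nat.eq_zero_of_dvd_of_lt h4 (by omega)
    have h7 : W ⊓ LinearMap.ker (S - 1) = W :=
      Submodule.eq_of_le_of_finrank_eq inf_le_left (by omega)
    rw [← h7]
    exact inf_le_right
  have hKnd : IsNondegenerateOn (QuadraticMap.polar Q) (LinearMap.ker (S - 1)) := by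
    have h := (Cfsg.Agent.Helper31.OH5992.o_fix Q hQ S hSP r hrpr.pos hrF hSr ⊤ le_top
      (Cfsg.Agent.Helper96.OH.ond_top Q hQ)).1
    rwa [top_inf_eq] at h
  have hinj : Function.Injective S := by
    intro u v huv
    have h : S ^ (r - 1) * S = 1 := by
      rw [← pow_succ, Nat.sub_add_cancel hrpr.pos, hSr]
    have hu := congrArg (fun A : Module.End F (ι → F) => A u) h
    have hv := congrArg (fun A : Module.End F (ι → F) => A v) h
    simp only [Module.End.mul_apply, Module.End.one_apply] at hu hv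
    rw [← hu, ← hv, huv]
  have h1 := Cfsg.Agent.Helper37.OH5992.o_fix_congr S r hSr
    (fun W => finrank F W = m ∧ IsNondegenerateOn (QuadraticMap.polar Q) W ∧ ¬ IsPlusTypeOn Q W)
    (fun W hW => Cfsg.Agent.Helper88.OE5993.oebd_pred_map Q hQ S hSP hinj m W hW)
  have h2' := (h1.dvd_iff (dvd_refl r)).mp hdiv
  have h3 : Nat.card {W : Submodule F (ι → F) //
      (finrank F W = m ∧ IsNondegenerateOn (QuadraticMap.polar Q) W ∧ ¬ IsPlusTypeOn Q W) ∧
        W.map S ≤ W} =
      Nat.card {W : Submodule F (ι → F) //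
      (finrank F W = m ∧ IsNondegenerateOn (QuadraticMap.polar Q) W ∧ ¬ IsPlusTypeOn Q W) ∧
        W ≤ LinearMap.ker (S - 1)} := by
    apply Nat.card_congr
    apply Equiv.subtypeEquivRight
    intro W
    constructor
    · rintro ⟨hW, hWT⟩
      exact ⟨hW, hin W hW hWT⟩
    · rintro ⟨hW, hWK⟩
      refine ⟨hW, ?_⟩
      rintro _ ⟨w, hw, rfl⟩
      have h8 := hWK hw
      rw [LinearMap.mem_ker, LinearMap.sub_apply, Module.End.one_apply, sub_eq_zero] at h8
      rw [h8]
      exact hw
  rw [h3] at h2'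
  obtain ⟨T', hT', hT'1, hT'r, -, hrange⟩ := Cfsg.Agent.Helper86.EL5988.el_cnt_core Q hQ r m hme
    (LinearMap.ker (S - 1)) hKnd W₀ ⟨hW₀, hW₀K⟩ h2'
  have h9 := Cfsg.Agent.Helper96.OHAll.oall_cdvd Q hQ T' hT' r hr2 hrF hT'r i c hi hc ⊤ le_top
    (Cfsg.Agent.Helper96.OH.ond_top Q hQ)
  rw [top_inf_eq, finrank_top, hfV] at h9
  have h10 := LinearMap.finrank_range_add_finrank_ker (T' - 1)
  rw [hfV] at h10
  have h11 := Submodule.finrank_mono hrange
  have h12 : finrank F (LinearMap.range (T' - 1)) = 0 := by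
    have h : 2 * d - finrank F (LinearMap.ker (T' - 1)) = finrank F (LinearMap.range (T' - 1)) := by
      omega
    rw [h] at h9
    exact Nat.eq_zero_of_dvd_of_lt h9 (by omega)
  have h13 : LinearMap.range (T' - 1) = ⊥ := Submodule.finrank_eq_zero.mp h12
  have h14 : T' - 1 = 0 := LinearMap.range_eq_bot.mp h13
  exact hT'1 (sub_eq_zero.mp h14)

end Cfsg.Agent.Helper94.S88
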