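import Cfsg.Agent.Helper94.SpPerp
import Cfsg.Agent.Helper94.Quad

set_option autoImplicit false
set_option linter.unusedSectionVars false
set_option linter.unusedSimpArgs false
set_option linter.unusedVariables false

namespace Cfsg.Agent.Helper94

open Cfsg Cfsg.Geo Matrix

universe u

variable {F : Type u} [Field F] {m : ℕ}

/-- A transvection centred in `W` stabilises `W`. -/
theorem stab_tv_of_mem (W : Submodule F (Fin m ⊕ Fin m → F)) {d : Fin m ⊕ Fin m → F} (hd : d ∈ W) (c : F) :
    stGL d c ∈ subspaceStabilizer W ⊓ spGL m F := by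
  refine Subgroup.mem_inf.mpr ⟨?_, stGL_mem d c⟩
  rw [mem_subspaceStabilizer_iff]
  intro v
  rw [stGL_mulVec]
  constructor
  · intro hv
    exact W.add_mem hv (W.smul_mem _ hd)
  · intro hv
    have := W.sub_mem hv (W.smul_mem (c * sympForm m F v d) hd)
    rwa [add_sub_cancel_right] at this

/-- A transvection centred in the perpendicular of `W` stabilises `W`. -/
theorem stab_tv_of_perp (W : Submodule F (Fin m ⊕ Fin m → F)) {d : Fin m ⊕ Fin m → F} (hd : d ∈ perp W)
    (c : F) : stGL d c ∈ subspaceStabilizer W ⊓ spGL m F := by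
  refine Subgroup.mem_inf.mpr ⟨?_, stGL_mem d c⟩
  rw [mem_subspaceStabilizer_iff]
  intro v
  rw [stGL_mulVec]
  constructor
  · intro hv
    rw [(mem_perp W d).mp hd v hv, mul_zero, zero_smul, add_zero]
    exact hv
  · intro hv
    have h1 := (mem_perp W d).mp hd _ hv
    rw [sf_add_left, sf_smul_left, sf_self, mul_zero, add_zero] at h1
    rw [h1, mul_zero, zero_smul, add_zero] at hv
    exact hv

/-- The stabiliser in the symplectic group of a non-degenerate subspace of dimension less than half is a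
maximal subgroup. -/
theorem sp_nondeg_max (W : Submodule F (Fin m ⊕ Fin m → F)) (hW0 : W ≠ ⊥)
    (hW : IsNondegenerateOn (sympForm m F) W) (hdim : Module.finrank F W < m) :
    IsMaximalIn (spGL m F) (subspaceStabilizer W ⊓ spGL m F) := by
  obtain ⟨w₁, hw₁, hw₁0⟩ := Submodule.exists_mem_ne_zero_of_ne_bot hW0
  have hWp := nondeg_perp W hW
  have hfr := finrank_perp W
  have hP0 : perp W ≠ ⊥ := by
    intro h
    rw [h, finrank_bot] at hfr
    omega
  obtain ⟨u₁, hu₁, hu₁0⟩ := Submodule.exists_mem_ne_zero_of_ne_bot hP0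
  have hdisj' : ∀ x, x ∈ W → x ∈ perp W → x = 0 := Submodule.disjoint_def.mp (disjoint_perp W hW)
  constructor
  · rw [SetLike.lt_iff_le_and_exists]
    refine ⟨inf_le_right, ?_⟩
    obtain ⟨⟨y, hy, hyw⟩, -⟩ := hW w₁ hw₁ hw₁0
    refine ⟨stGL (w₁ + u₁) 1, stGL_mem _ _, ?_⟩
    rintro ⟨hst, -⟩
    have := ((mem_subspaceStabilizer_iff W _).mp hst y).mp hy
    rw [stGL_mulVec, one_mul, sf_add_right, (mem_perp W u₁).mp hu₁ y hy, add_zero] at this
    have h2 : sympForm m F y w₁ • u₁ ∈ W := by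
      have h3 := W.sub_mem (W.sub_mem this hy) (W.smul_mem (sympForm m F y w₁) hw₁)
      have e : y + sympForm m F y w₁ • (w₁ + u₁) - y - sympForm m F y w₁ • w₁ =
          sympForm m F y w₁ • u₁ := by
        rw [smul_add]; abel
      rwa [e] at h3
    have h4 : u₁ ∈ W := by
      have := W.smul_mem (sympForm m F y w₁)⁻¹ h2
      rwa [smul_smul, inv_mul_cancel₀ hyw, one_smul] at this
    exact hu₁0 (hdisj' u₁ h4 hu₁)
  · intro K hHK hKS
    by_cases hKH : K ≤ subspaceStabilizer W ⊓ spGL m F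
    · left; exact le_antisymm hKH hHK
    · right
      apply le_antisymm hKS
      obtain ⟨g, hgK, hgH⟩ := SetLike.not_le_iff_exists.mp hKH
      have hgS : g ∈ spGL m F := hKS hgK
      have hgW : g ∉ subspaceStabilizer W := fun h => hgH ⟨h, hgS⟩
      have hWU : ∀ d ∈ W, d ∈ tvCentres K := fun d hd c => hHK (stab_tv_of_mem W hd c)
      have hPU : ∀ d ∈ perp W, d ∈ tvCentres K := fun d hd c => hHK (stab_tv_of_perp W hd c)
      obtain ⟨h, hhK, hhS, w₀, hw₀, hhw₀⟩ : ∃ h : GL (Fin m ⊕ Fin m) F, h ∈ K ∧ h ∈ spGL m F ∧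
          ∃ w₀ ∈ W, (h : Matrix (Fin m ⊕ Fin m) (Fin m ⊕ Fin m) F) *ᵥ w₀ ∉ W := by
        by_contra hcon
        push Not at hcon
        apply hgW
        rw [mem_subspaceStabilizer_iff]
        intro v
        refine ⟨fun hv => hcon g hgK hgS v hv, fun hv => ?_⟩
        have := hcon g⁻¹ (K.inv_mem hgK) ((spGL m F).inv_mem hgS) _ hv
        rwa [gl_inv_mulVec] at this
      obtain ⟨u, hu, hz1, hz2⟩ : ∃ u, (u ∈ W ∨ u ∈ perp W) ∧
          (h : Matrix (Fin m ⊕ Fin m) (Fin m ⊕ Fin m) F) *ᵥ u ∉ W ∧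
          (h : Matrix (Fin m ⊕ Fin m) (Fin m ⊕ Fin m) F) *ᵥ u ∉ perp W := by
        by_contra hcon
        push Not at hcon
        have c1 : ∀ u ∈ W, (h : Matrix (Fin m ⊕ Fin m) (Fin m ⊕ Fin m) F) *ᵥ u ∈ perp W := by
          intro u hu
          by_contra hup
          have huW : (h : Matrix (Fin m ⊕ Fin m) (Fin m ⊕ Fin m) F) *ᵥ u ∈ W := by
            by_contra hh
            exact hup (hcon u (Or.inl hu) hh)
          have hsum := hcon (u + w₀) (Or.inl (W.add_mem hu hw₀))
          rw [mulVec_add] at hsum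
          by_cases hs : (h : Matrix (Fin m ⊕ Fin m) (Fin m ⊕ Fin m) F) *ᵥ u +
              (h : Matrix (Fin m ⊕ Fin m) (Fin m ⊕ Fin m) F) *ᵥ w₀ ∈ W
          · exact hhw₀ (by have := W.sub_mem hs huW; rwa [add_sub_cancel_left] at this)
          · have h1 := hsum hs
            have h2 : (h : Matrix (Fin m ⊕ Fin m) (Fin m ⊕ Fin m) F) *ᵥ w₀ ∈ perp W :=
              hcon w₀ (Or.inl hw₀) hhw₀
            exact hup (by have := (perp W).sub_mem h1 h2; rwa [add_sub_cancel_right] at this)
        have c2 : ∀ u ∈ perp W, (h : Matrix (Fin m ⊕ Fin m) (Fin m ⊕ Fin m) F) *ᵥ u ∈ perp W := by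
          by_contra hc2
          push Not at hc2
          obtain ⟨u₀, hu₀, hu₀p⟩ := hc2
          have hu₀W : (h : Matrix (Fin m ⊕ Fin m) (Fin m ⊕ Fin m) F) *ᵥ u₀ ∈ W := by
            by_contra hh
            exact hu₀p (hcon u₀ (Or.inr hu₀) hh)
          have c3 : ∀ u ∈ perp W, (h : Matrix (Fin m ⊕ Fin m) (Fin m ⊕ Fin m) F) *ᵥ u ∈ W := by
            intro u hu
            by_contra huW
            have hup : (h : Matrix (Fin m ⊕ Fin m) (Fin m ⊕ Fin m) F) *ᵥ u ∈ perp W :=
              hcon u (Or.inr hu) huW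
            have hsum := hcon (u + u₀) (Or.inr ((perp W).add_mem hu hu₀))
            rw [mulVec_add] at hsum
            by_cases hs : (h : Matrix (Fin m ⊕ Fin m) (Fin m ⊕ Fin m) F) *ᵥ u +
                (h : Matrix (Fin m ⊕ Fin m) (Fin m ⊕ Fin m) F) *ᵥ u₀ ∈ W
            · exact huW (by have := W.sub_mem hs hu₀W; rwa [add_sub_cancel_right] at this)
            · have h1 := hsum hs
              exact hu₀p (by have := (perp W).sub_mem h1 hup; rwa [add_sub_cancel_left] at this)
          have hinj : Function.Injective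
              (Matrix.toLin' (h : Matrix (Fin m ⊕ Fin m) (Fin m ⊕ Fin m) F)) := by
            intro x y hxy
            rw [Matrix.toLin'_apply, Matrix.toLin'_apply] at hxy
            have := congrArg (fun z => ((h⁻¹ : GL (Fin m ⊕ Fin m) F) :
              Matrix (Fin m ⊕ Fin m) (Fin m ⊕ Fin m) F) *ᵥ z) hxy
            simpa [gl_inv_mulVec] using this
          have hle : (perp W).map (Matrix.toLin' (h : Matrix (Fin m ⊕ Fin m) (Fin m ⊕ Fin m) F)) ≤ W := by
            rintro _ ⟨x, hx, rfl⟩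
            rw [Matrix.toLin'_apply]
            exact c3 x hx
          have e1 := (Submodule.equivMapOfInjective _ hinj (perp W)).finrank_eq
          have e2 := Submodule.finrank_mono hle
          omega
        obtain ⟨a, ha, b, hb, hab⟩ := exists_decomp W hW
          (((h⁻¹ : GL (Fin m ⊕ Fin m) F) : Matrix (Fin m ⊕ Fin m) (Fin m ⊕ Fin m) F) *ᵥ w₁)
        have : (h : Matrix (Fin m ⊕ Fin m) (Fin m ⊕ Fin m) F) *ᵥ
            (((h⁻¹ : GL (Fin m ⊕ Fin m) F) : Matrix (Fin m ⊕ Fin m) (Fin m ⊕ Fin m) F) *ᵥ w₁) ∈ perp W := by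
          rw [hab, mulVec_add]
          exact (perp W).add_mem (c1 a ha) (c2 b hb)
        rw [gl_mulVec_inv] at this
        exact hw₁0 (hdisj' w₁ hw₁ this)
      have hzU : (h : Matrix (Fin m ⊕ Fin m) (Fin m ⊕ Fin m) F) *ᵥ u ∈ tvCentres K := by
        rcases hu with hu | hu
        · exact tvCentres_map K hhK hhS (hWU u hu)
        · exact tvCentres_map K hhK hhS (hPU u hu)
      obtain ⟨z₁, hz₁, z₂, hz₂, hz⟩ := exists_decomp W hW
        ((h : Matrix (Fin m ⊕ Fin m) (Fin m ⊕ Fin m) F) *ᵥ u)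
      rw [hz] at hzU hz1 hz2
      have hz₁0 : z₁ ≠ 0 := by
        rintro rfl
        rw [zero_add] at hz2
        exact hz2 hz₂
      have hz₂0 : z₂ ≠ 0 := by
        rintro rfl
        rw [add_zero] at hz1
        exact hz1 hz₁
      apply spGL_le_of_tvCentres
      intro x
      obtain ⟨a, ha, b, hb, rfl⟩ := exists_decomp W hW x
      by_cases ha0 : a = 0
      · rw [ha0, zero_add]; exact hPU b hb
      by_cases hb0 : b = 0
      · rw [hb0, add_zero]; exact hWU a ha
      have s1 := move_comp K W hW hWU z₂ hz₂ z₁ a hz₁ ha hz₁0 ha0 hzU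
      have ha' : a ∈ perp (perp W) := by rw [perp_perp]; exact ha
      rw [add_comm] at s1
      have s2 := move_comp K (perp W) hWp hPU a ha' z₂ b hz₂ hb hz₂0 hb0 s1
      rw [add_comm]
      exact s2

end Cfsg.Agent.Helper94
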