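import Cfsg.Agent.Helper94.SpNondeg

set_option autoImplicit false
set_option linter.unusedSectionVars false
set_option linter.unusedSimpArgs false
set_option linter.unusedVariables false

namespace Cfsg.Agent.Helper94

open Cfsg Cfsg.Geo Matrix

universe u

variable {F : Type u} [Field F] {m : ℕ}

/-- An invertible matrix mapping a subspace into itself stabilises it. -/
theorem stab_of_maps_to {ι : Type} [Fintype ι] [DecidableEq ι] (g : GL ι F) (W : Submodule F (ι → F))
    (h : ∀ v ∈ W, (g : Matrix ι ι F) *ᵥ v ∈ W) : g ∈ subspaceStabilizer W := by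
  rw [mem_subspaceStabilizer_iff]
  intro v
  refine ⟨h v, fun hv => ?_⟩
  have hmap : ∀ x ∈ W, Matrix.toLin' (g : Matrix ι ι F) x ∈ W := by
    intro x hx
    rw [Matrix.toLin'_apply]
    exact h x hx
  have hinj : Function.Injective ((Matrix.toLin' (g : Matrix ι ι F)).restrict hmap) := by
    intro x y hxy
    have h1 := congrArg Subtype.val hxy
    simp only [LinearMap.coe_restrict_apply, Matrix.toLin'_apply] at h1
    have h2 := congrArg (fun z => ((g⁻¹ : GL ι F) : Matrix ι ι F) *ᵥ z) h1
    simp only [gl_inv_mulVec] at h2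
    exact Subtype.ext h2
  obtain ⟨w, hw⟩ := (LinearMap.injective_iff_surjective.mp hinj) ⟨_, hv⟩
  have h1 := congrArg Subtype.val hw
  simp only [LinearMap.coe_restrict_apply, Matrix.toLin'_apply] at h1
  have h2 := congrArg (fun z => ((g⁻¹ : GL ι F) : Matrix ι ι F) *ᵥ z) h1
  simp only [gl_inv_mulVec] at h2
  rw [← h2]
  exact w.2

/-- The product of three transvections giving the map `v ↦ v + f(v,w) y + f(v,y) w` for perpendicular `w, y`. -/
noncomputable def eichGL (w y : Fin m ⊕ Fin m → F) : GL (Fin m ⊕ Fin m) F :=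
  stGL (w + y) 1 * stGL w (-1) * stGL y (-1)

theorem eichGL_mem (w y : Fin m ⊕ Fin m → F) : eichGL w y ∈ spGL m F :=
  (spGL m F).mul_mem ((spGL m F).mul_mem (stGL_mem _ _) (stGL_mem _ _)) (stGL_mem _ _)

theorem eichGL_mulVec (w y : Fin m ⊕ Fin m → F) (hyw : sympForm m F y w = 0) (v : Fin m ⊕ Fin m → F) :
    ((eichGL w y : GL (Fin m ⊕ Fin m) F) : Matrix (Fin m ⊕ Fin m) (Fin m ⊕ Fin m) F) *ᵥ v =
      v + sympForm m F v w • y + sympForm m F v y • w := by
  have hwy : sympForm m F w y = 0 := by rw [sf_swap, hyw, neg_zero]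
  rw [eichGL, gl_mul_mulVec, gl_mul_mulVec, stGL_mulVec, stGL_mulVec, stGL_mulVec]
  simp only [sf_add_left, sf_add_right, sf_smul_left, sf_smul_right, sf_self, hyw, hwy]
  module

/-- The enlargement step: a subspace of centres containing `perp W` (with `W ≤ perp W`) stays inside the set of
centres after adjoining a centre. -/
theorem enlarge (K : Subgroup (GL (Fin m ⊕ Fin m) F)) (W X : Submodule F (Fin m ⊕ Fin m → F))
    (hW : W ≤ perp W) (hX : perp W ≤ X) (hXU : ∀ x ∈ X, x ∈ tvCentres K) (v : Fin m ⊕ Fin m → F)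
    (hv : v ∈ tvCentres K) : ∀ x ∈ X ⊔ Submodule.span F {v}, x ∈ tvCentres K := by
  intro x hx
  obtain ⟨u, hu, z, hz, rfl⟩ := Submodule.mem_sup.mp hx
  obtain ⟨β, rfl⟩ := Submodule.mem_span_singleton.mp hz
  by_cases hvX : v ∈ X
  · exact hXU _ (X.add_mem hu (X.smul_mem β hvX))
  by_cases hβ : β = 0
  · rw [hβ, zero_smul, add_zero]; exact hXU u hu
  have hpX : perp X ≤ X := by
    have h1 : perp X ≤ perp (perp W) := perp_anti hX
    rw [perp_perp] at h1
    exact h1.trans (hW.trans hX)
  have hxX : u + β • v ∉ X := by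
    intro h
    have h1 := X.sub_mem h hu
    rw [add_sub_cancel_left] at h1
    have h2 := X.smul_mem β⁻¹ h1
    rw [smul_smul, inv_mul_cancel₀ hβ, one_smul] at h2
    exact hvX h2
  by_cases huv : sympForm m F u v ≠ 0
  · have := tvCentres_line K (hXU u hu) hv huv 1 β
    rwa [one_smul] at this
  · push Not at huv
    have e1 : ∃ u' ∈ X, sympForm m F u' v ≠ 0 := by
      by_contra hcon
      push Not at hcon
      exact hvX (hpX ((mem_perp X v).mpr hcon))
    have e2 : ∃ u' ∈ X, sympForm m F u' (u + β • v) ≠ 0 := by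
      by_contra hcon
      push Not at hcon
      exact hxX (hpX ((mem_perp X _).mpr hcon))
    obtain ⟨u₁, hu₁, h1, h2⟩ := exists_both_ne X v (u + β • v) e1 e2
    have hy₁ : u₁ + β • v ∈ tvCentres K := by
      have := tvCentres_line K (hXU u₁ hu₁) hv h1 1 β
      rwa [one_smul] at this
    have hy₂ : u - u₁ ∈ tvCentres K := hXU _ (X.sub_mem hu hu₁)
    have hne : sympForm m F (u - u₁) (u₁ + β • v) ≠ 0 := by
      have e : sympForm m F (u - u₁) (u₁ + β • v) = - sympForm m F u₁ (u + β • v) := by
        simp only [sf_sub_left, sf_add_right, sf_smul_right, sf_self, huv]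
        rw [sf_swap u u₁]
        ring
      rw [e]
      exact neg_ne_zero.mpr h2
    have := tvCentres_line K hy₂ hy₁ hne 1 1
    have e : (1 : F) • (u - u₁) + (1 : F) • (u₁ + β • v) = u + β • v := by
      rw [one_smul, one_smul]; abel
    rwa [e] at this

/-- The stabiliser in the symplectic group of a non-zero totally singular subspace is a maximal subgroup. -/
theorem sp_parab_max (W : Submodule F (Fin m ⊕ Fin m → F)) (hW0 : W ≠ ⊥)
    (hW : IsTotallySingularFor (sympForm m F) W) :
    IsMaximalIn (spGL m F) (subspaceStabilizer W ⊓ spGL m F) := by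
  obtain ⟨w₁, hw₁, hw₁0⟩ := Submodule.exists_mem_ne_zero_of_ne_bot hW0
  have hWp : W ≤ perp W := fun x hx => (mem_perp W x).mpr (fun w hw => hW w hw x hx)
  constructor
  · rw [SetLike.lt_iff_le_and_exists]
    refine ⟨inf_le_right, ?_⟩
    obtain ⟨y, hy⟩ := sf_exists_ne w₁ hw₁0
    refine ⟨stGL y 1, stGL_mem _ _, ?_⟩
    rintro ⟨hst, -⟩
    have := ((mem_subspaceStabilizer_iff W _).mp hst w₁).mp hw₁
    rw [stGL_mulVec, one_mul] at this
    have h2 : sympForm m F w₁ y • y ∈ W := by
      have h3 := W.sub_mem this hw₁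
      rwa [add_sub_cancel_left] at h3
    have h4 : y ∈ W := by
      have := W.smul_mem (sympForm m F w₁ y)⁻¹ h2
      rwa [smul_smul, inv_mul_cancel₀ hy, one_smul] at this
    exact hy (hW w₁ hw₁ y h4)
  · intro K hHK hKS
    by_cases hKH : K ≤ subspaceStabilizer W ⊓ spGL m F
    · left; exact le_antisymm hKH hHK
    · right
      apply le_antisymm hKS
      obtain ⟨g, hgK, hgH⟩ := SetLike.not_le_iff_exists.mp hKH
      have hgS : g ∈ spGL m F := hKS hgK
      have hgW : g ∉ subspaceStabilizer W := fun h => hgH ⟨h, hgS⟩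
      have hPU : ∀ d ∈ perp W, d ∈ tvCentres K := fun d hd c => hHK (stab_tv_of_perp W hd c)
      obtain ⟨h, hhK, hhS, w₀, hw₀, hhw₀⟩ : ∃ h : GL (Fin m ⊕ Fin m) F, h ∈ K ∧ h ∈ spGL m F ∧
          ∃ w₀ ∈ W, (h : Matrix (Fin m ⊕ Fin m) (Fin m ⊕ Fin m) F) *ᵥ w₀ ∉ W := by
        by_contra hcon
        push Not at hcon
        apply hgW
        rw [mem_subspaceStabilizer_iff]
        intro v
        refine ⟨fun hv => hcon g hgK hgS v hv, fun hv => ?_⟩
        have := hcon g⁻¹ (K.inv_mem hgK) ((spGL m F).inv_mem hgS) _ hv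
        rwa [gl_inv_mulVec] at this
      -- a centre outside `perp W`
      obtain ⟨v₀, hv₀U, w₂, hw₂, hw₂v₀⟩ : ∃ v₀ ∈ tvCentres K, ∃ w₂ ∈ W, sympForm m F w₂ v₀ ≠ 0 := by
        obtain ⟨u, hu, hne⟩ := exists_perp_ne W _ hhw₀
        refine ⟨((h⁻¹ : GL (Fin m ⊕ Fin m) F) : Matrix (Fin m ⊕ Fin m) (Fin m ⊕ Fin m) F) *ᵥ u,
          tvCentres_map K (K.inv_mem hhK) ((spGL m F).inv_mem hhS) (hPU u hu), w₀, hw₀, ?_⟩
        have := sp_apply hhS w₀ (((h⁻¹ : GL (Fin m ⊕ Fin m) F) :
          Matrix (Fin m ⊕ Fin m) (Fin m ⊕ Fin m) F) *ᵥ u)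
        rw [gl_mulVec_inv] at this
        rw [← this, sf_swap]
        exact neg_ne_zero.mpr hne
      -- the centres form a subspace
      have hadd : ∀ x ∈ tvCentres K, ∀ y ∈ tvCentres K, x + y ∈ tvCentres K := by
        intro x hx y hy
        have h1 := enlarge K W (perp W) hWp le_rfl hPU x hx
        have h2 := enlarge K W (perp W ⊔ Submodule.span F {x}) hWp le_sup_left h1 y hy
        apply h2
        exact Submodule.add_mem _ (Submodule.mem_sup_left (Submodule.mem_sup_right
          (Submodule.mem_span_singleton_self x))) (Submodule.mem_sup_right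
          (Submodule.mem_span_singleton_self y))
      obtain ⟨U, hU⟩ : ∃ U : Submodule F (Fin m ⊕ Fin m → F), ∀ x, x ∈ U ↔ x ∈ tvCentres K :=
        ⟨{ carrier := tvCentres K
           add_mem' := fun {a b} ha hb => hadd a ha b hb
           zero_mem' := zero_mem_tvCentres K
           smul_mem' := fun c {x} hx => tvCentres_smul K hx c }, fun x => Iff.rfl⟩
      have hPU' : perp W ≤ U := fun x hx => (hU x).mpr (hPU x hx)
      have hUtop : U = ⊤ := by
        by_contra hne
        have hpU : perp U ≠ ⊥ := by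
          intro hbot
          apply hne
          rw [← perp_perp U, hbot]
          rw [eq_top_iff]
          intro x _
          rw [mem_perp]
          intro w hw
          rw [(Submodule.mem_bot F).mp hw, sf_zero_left]
        obtain ⟨x, hx, hx0⟩ := Submodule.exists_mem_ne_zero_of_ne_bot hpU
        have hxW : x ∈ W := by
          have h1 : perp U ≤ perp (perp W) := perp_anti hPU'
          rw [perp_perp] at h1
          exact h1 hx
        have hxs : x ∉ Submodule.span F {w₂} := by
          intro hxs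
          obtain ⟨c, rfl⟩ := Submodule.mem_span_singleton.mp hxs
          have h1 := (mem_perp' U _).mp hx v₀ ((hU v₀).mpr hv₀U)
          rw [sf_smul_left] at h1
          rcases mul_eq_zero.mp h1 with h2 | h2
          · rw [h2, zero_smul] at hx0
            exact hx0 rfl
          · exact hw₂v₀ h2
        obtain ⟨y, hy, hyx⟩ := exists_perp_ne (Submodule.span F {w₂}) x hxs
        have hyw₂ : sympForm m F y w₂ = 0 := by
          have := (mem_perp _ y).mp hy w₂ (Submodule.mem_span_singleton_self w₂)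
          rw [sf_swap, this, neg_zero]
        have hρS : eichGL w₂ y ∈ spGL m F := eichGL_mem w₂ y
        have hρW : eichGL w₂ y ∈ subspaceStabilizer W := by
          apply stab_of_maps_to
          intro v hv
          rw [eichGL_mulVec w₂ y hyw₂, hW v hv w₂ hw₂, zero_smul, add_zero]
          exact W.add_mem hv (W.smul_mem _ hw₂)
        have hρK : eichGL w₂ y ∈ K := hHK ⟨hρW, hρS⟩
        have hρx : ((eichGL w₂ y : GL (Fin m ⊕ Fin m) F) : Matrix (Fin m ⊕ Fin m) (Fin m ⊕ Fin m) F) *ᵥ x
            ∈ perp U := by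
          rw [mem_perp]
          intro u hu
          have h3 : (((eichGL w₂ y)⁻¹ : GL (Fin m ⊕ Fin m) F) :
              Matrix (Fin m ⊕ Fin m) (Fin m ⊕ Fin m) F) *ᵥ u ∈ U :=
            (hU _).mpr (tvCentres_map K (K.inv_mem hρK) ((spGL m F).inv_mem hρS) ((hU u).mp hu))
          have h2 := (mem_perp U _).mp hx _ h3
          have h1 := sp_apply hρS ((((eichGL w₂ y)⁻¹ : GL (Fin m ⊕ Fin m) F) :
              Matrix (Fin m ⊕ Fin m) (Fin m ⊕ Fin m) F) *ᵥ u) x
          rw [gl_mulVec_inv] at h1
          rw [h1]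
          exact h2
        rw [eichGL_mulVec w₂ y hyw₂, hW x hxW w₂ hw₂, zero_smul, add_zero] at hρx
        have h5 : sympForm m F x y • w₂ ∈ perp U := by
          have := (perp U).sub_mem hρx hx
          rwa [add_sub_cancel_left] at this
        have hxy : sympForm m F x y ≠ 0 := by
          rw [sf_swap]; exact neg_ne_zero.mpr hyx
        have h6 : w₂ ∈ perp U := by
          have := (perp U).smul_mem (sympForm m F x y)⁻¹ h5
          rwa [smul_smul, inv_mul_cancel₀ hxy, one_smul] at this
        exact hw₂v₀ ((mem_perp' U w₂).mp h6 v₀ ((hU v₀).mpr hv₀U))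
      apply spGL_le_of_tvCentres
      intro x
      rw [← hU, hUtop]
      exact Submodule.mem_top

end Cfsg.Agent.Helper94
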