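import Cfsg.Agent.Helper94.SpGen

set_option autoImplicit false
set_option linter.unusedSectionVars false
set_option linter.unusedSimpArgs false
set_option linter.unusedVariables false

namespace Cfsg.Agent.Helper94

open Cfsg Cfsg.Geo Matrix

universe u

variable {F : Type u} [Field F] {m : ℕ}

/-- The perpendicular subspace for the standard alternating form. -/
noncomputable def perp (X : Submodule F (Fin m ⊕ Fin m → F)) : Submodule F (Fin m ⊕ Fin m → F) :=
  (Helper13.sympB m F).orthogonal X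

theorem mem_perp (X : Submodule F (Fin m ⊕ Fin m → F)) (v : Fin m ⊕ Fin m → F) :
    v ∈ perp X ↔ ∀ w ∈ X, sympForm m F w v = 0 := Iff.rfl

theorem mem_perp' (X : Submodule F (Fin m ⊕ Fin m → F)) (v : Fin m ⊕ Fin m → F) :
    v ∈ perp X ↔ ∀ w ∈ X, sympForm m F v w = 0 := by
  rw [mem_perp]
  constructor
  · intro h w hw
    rw [sf_swap, h w hw, neg_zero]
  · intro h w hw
    rw [sf_swap, h w hw, neg_zero]

theorem sympB13_isRefl : (Helper13.sympB m F).IsRefl := Helper13.sympB_isAlt.isRefl

theorem perp_perp (X : Submodule F (Fin m ⊕ Fin m → F)) : perp (perp X) = X :=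
  LinearMap.BilinForm.orthogonal_orthogonal Helper13.sympB_nondegenerate sympB13_isRefl X

theorem perp_anti {X Y : Submodule F (Fin m ⊕ Fin m → F)} (h : X ≤ Y) : perp Y ≤ perp X := by
  intro v hv w hw
  exact hv w (h hw)

theorem finrank_perp (X : Submodule F (Fin m ⊕ Fin m → F)) :
    Module.finrank F (perp X) = 2 * m - Module.finrank F X := by
  have := LinearMap.BilinForm.finrank_orthogonal (Helper13.sympB_nondegenerate (m := m) (F := F)) X
  rw [perp, this, Module.finrank_fintype_fun_eq_card, Fintype.card_sum, Fintype.card_fin]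
  omega

theorem finrank_le_two_mul (X : Submodule F (Fin m ⊕ Fin m → F)) : Module.finrank F X ≤ 2 * m := by
  have := Submodule.finrank_le X
  rw [Module.finrank_fintype_fun_eq_card, Fintype.card_sum, Fintype.card_fin] at this
  omega

/-- A vector outside `X` is not perpendicular to `perp X`. -/
theorem exists_perp_ne (X : Submodule F (Fin m ⊕ Fin m → F)) (x : Fin m ⊕ Fin m → F) (hx : x ∉ X) :
    ∃ u ∈ perp X, sympForm m F u x ≠ 0 := by
  by_contra hcon
  push Not at hcon
  apply hx
  rw [← perp_perp X]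
  exact hcon

theorem disjoint_perp (X : Submodule F (Fin m ⊕ Fin m → F)) (hX : IsNondegenerateOn (sympForm m F) X) :
    Disjoint X (perp X) := by
  rw [Submodule.disjoint_def]
  intro x hx hx'
  by_contra h0
  obtain ⟨⟨y, hy, hyx⟩, -⟩ := hX x hx h0
  exact hyx (hx' y hy)

theorem isCompl_perp (X : Submodule F (Fin m ⊕ Fin m → F)) (hX : IsNondegenerateOn (sympForm m F) X) :
    IsCompl X (perp X) :=
  (LinearMap.BilinForm.isCompl_orthogonal_iff_disjoint sympB13_isRefl).mpr (disjoint_perp X hX)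

theorem exists_decomp (X : Submodule F (Fin m ⊕ Fin m → F)) (hX : IsNondegenerateOn (sympForm m F) X)
    (x : Fin m ⊕ Fin m → F) : ∃ a ∈ X, ∃ b ∈ perp X, x = a + b := by
  have h : x ∈ X ⊔ perp X := by
    rw [(isCompl_perp X hX).sup_eq_top]; exact Submodule.mem_top
  obtain ⟨a, ha, b, hb, hab⟩ := Submodule.mem_sup.mp h
  exact ⟨a, ha, b, hb, hab.symm⟩

theorem nondeg_perp (X : Submodule F (Fin m ⊕ Fin m → F)) (hX : IsNondegenerateOn (sympForm m F) X) :
    IsNondegenerateOn (sympForm m F) (perp X) := by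
  have key : ∀ b ∈ perp X, b ≠ 0 → ∃ x ∈ perp X, sympForm m F x b ≠ 0 := by
    intro b hb hb0
    obtain ⟨y, hy⟩ := sf_exists_ne b hb0
    obtain ⟨y₁, hy₁, y₂, hy₂, rfl⟩ := exists_decomp X hX y
    refine ⟨y₂, hy₂, ?_⟩
    rw [sf_add_right, (mem_perp' X b).mp hb y₁ hy₁, zero_add] at hy
    rw [sf_swap]
    exact neg_ne_zero.mpr hy
  intro b hb hb0
  obtain ⟨x, hx, hxb⟩ := key b hb hb0
  exact ⟨⟨x, hx, hxb⟩, ⟨x, hx, by rw [sf_swap]; exact neg_ne_zero.mpr hxb⟩⟩

/-- Moving one component: if all vectors of a non-degenerate subspace `A` are centres and `a + z` is a centre with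
`a ∈ A` non-zero and `z` perpendicular to `A`, then `b + z` is a centre for every non-zero `b ∈ A`. -/
theorem move_comp (K : Subgroup (GL (Fin m ⊕ Fin m) F)) (A : Submodule F (Fin m ⊕ Fin m → F))
    (hA : IsNondegenerateOn (sympForm m F) A) (hAU : ∀ d ∈ A, d ∈ tvCentres K)
    (z : Fin m ⊕ Fin m → F) (hz : z ∈ perp A) (a b : Fin m ⊕ Fin m → F) (ha : a ∈ A) (hb : b ∈ A)
    (ha0 : a ≠ 0) (hb0 : b ≠ 0) (h : a + z ∈ tvCentres K) : b + z ∈ tvCentres K := by
  have step : ∀ a b : Fin m ⊕ Fin m → F, a ∈ A → b ∈ A → sympForm m F a b ≠ 0 → a + z ∈ tvCentres K →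
      b + z ∈ tvCentres K := by
    intro a b ha hb hab h
    have hd : a - b ∈ A := A.sub_mem ha hb
    have := tvCentres_map K (hAU _ hd (sympForm m F a b)⁻¹) (stGL_mem _ _) h
    rw [stGL_mulVec] at this
    have e : sympForm m F (a + z) (a - b) = - sympForm m F a b := by
      rw [sf_add_left, sf_sub_right, sf_self, (mem_perp' A z).mp hz _ hd]
      ring
    rw [e] at this
    have e2 : (sympForm m F a b)⁻¹ * -sympForm m F a b = -1 := by
      field_simp
    rw [e2] at this
    have e3 : a + z + (-1 : F) • (a - b) = b + z := by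
      rw [neg_one_smul]; abel
    rw [e3] at this
    exact this
  by_cases hab : sympForm m F a b ≠ 0
  · exact step a b ha hb hab h
  · obtain ⟨d, hd, hda, hdb⟩ := exists_both_ne A a b (hA a ha ha0).1 (hA b hb hb0).1
    have had : sympForm m F a d ≠ 0 := by rw [sf_swap]; exact neg_ne_zero.mpr hda
    exact step d b hd hb hdb (step a d ha hd had h)

end Cfsg.Agent.Helper94
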