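import Cfsg.Agent.Helper94.SpGen

/-!
Definitions for the maximality of the symplectic field-extension subgroups
`Sp_{2m/r}(q^r).r < Sp_{2m}(q)` (Aschbacher class `C₃`, statement S5664).

`K'` is a field acting on `V = F^{2m}` (a `K'`-vector space structure compatible with the
`F`-structure), self-adjointly and alternatingly for the standard alternating form.
-/

set_option autoImplicit false
set_option linter.unusedSectionVars false
set_option linter.unusedVariables false

namespace Cfsg.Agent.Helper94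

open Cfsg Cfsg.Geo Matrix

universe u

section SpcDefs

/-- Compatibility of the `K'`-action with the standard alternating form. -/
structure SpcData (m : ℕ) (F : Type u) [Field F] (K' : Type u) [Field K']
    [Module K' (Fin m ⊕ Fin m → F)] : Prop where
  sa : ∀ (k : K') (u v : Fin m ⊕ Fin m → F), sympForm m F (k • u) v = sympForm m F u (k • v)
  alt : ∀ (k : K') (v : Fin m ⊕ Fin m → F), sympForm m F (k • v) v = 0

variable {m : ℕ} {F : Type u} [Field F]

/-- The `K'`-valued form `B` with `Tr (κ * B v w) = f (κ • v) w`. -/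
noncomputable def spcB (K' : Type u) [Field K'] [Algebra F K'] [Module K' (Fin m ⊕ Fin m → F)]
    (v w : Fin m ⊕ Fin m → F) : K' :=
  @dite K' (∃ β : K', ∀ κ : K', Algebra.trace F K' (κ * β) = sympForm m F (κ • v) w)
    (Classical.propDecidable _) (fun h => h.choose) (fun _ => 0)

/-- `g` is `K'`-linear. -/
def spcSL (K' : Type u) [Field K'] [Module K' (Fin m ⊕ Fin m → F)]
    (g : GL (Fin m ⊕ Fin m) F) : Prop :=
  ∀ (k : K') (v : Fin m ⊕ Fin m → F), g.1 *ᵥ (k • v) = k • (g.1 *ᵥ v)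

/-- `g` is `K'`-semilinear. -/
def spcSemi (K' : Type u) [Field K'] [Module K' (Fin m ⊕ Fin m → F)]
    (g : GL (Fin m ⊕ Fin m) F) : Prop :=
  ∀ k : K', ∃ k' : K', ∀ v : Fin m ⊕ Fin m → F, g.1 *ᵥ (k • v) = k' • (g.1 *ᵥ v)

variable {K' : Type u} [Field K'] [Algebra F K'] [Module K' (Fin m ⊕ Fin m → F)]

/-- The `K'`-transvection `v ↦ v + (κ * B v c) • c`. -/
noncomputable def spcT (c : Fin m ⊕ Fin m → F) (κ : K') : GL (Fin m ⊕ Fin m) F :=
  @dite (GL (Fin m ⊕ Fin m) F)
    (∃ g : GL (Fin m ⊕ Fin m) F, ∀ v : Fin m ⊕ Fin m → F,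
      g.1 *ᵥ v = v + (κ * spcB K' v c) • c)
    (Classical.propDecidable _) (fun h => h.choose) (fun _ => 1)

/-- The torus element `x ↦ lam • x`, `y ↦ lam⁻¹ • y` (for `B x y = 1`), identity on `⟨x, y⟩^⊥`. -/
noncomputable def spcH (x y : Fin m ⊕ Fin m → F) (lam : K') : GL (Fin m ⊕ Fin m) F :=
  @dite (GL (Fin m ⊕ Fin m) F)
    (∃ g : GL (Fin m ⊕ Fin m) F, ∀ v : Fin m ⊕ Fin m → F,
      g.1 *ᵥ v = v + ((lam - 1) * spcB K' v y) • x - ((lam⁻¹ - 1) * spcB K' v x) • y)
    (Classical.propDecidable _) (fun h => h.choose) (fun _ => 1)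

/-- `k ↦ B (g⁻¹ (k • x)) c`. -/
noncomputable def spcPhi (x c : Fin m ⊕ Fin m → F) (g : GL (Fin m ⊕ Fin m) F) (k : K') : K' :=
  spcB K' ((g⁻¹).1 *ᵥ (k • x)) c

/-- The `F`-rank of `spcPhi`. -/
noncomputable def spcRk (F : Type u) [Field F] {m : ℕ} {K' : Type u} [Field K'] [Algebra F K']
    [Module K' (Fin m ⊕ Fin m → F)] (x c : Fin m ⊕ Fin m → F) (g : GL (Fin m ⊕ Fin m) F) : ℕ :=
  Module.finrank F (Submodule.span F (Set.range (spcPhi (K' := K') x c g)))

/-- `τ(a) τ(a') ∈ M` (transvections with parameter `1`). -/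
def spcLam (M : Subgroup (GL (Fin m ⊕ Fin m) F)) (a a' : Fin m ⊕ Fin m → F) : Prop :=
  stGL a (1 : F) * stGL a' (1 : F) ∈ M

end SpcDefs

end Cfsg.Agent.Helper94
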