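import Cfsg.Agent.Helper94.HermF4

set_option autoImplicit false
set_option linter.unusedSectionVars false
set_option linter.unusedSimpArgs false

namespace Cfsg.Agent.Helper94

open Cfsg Cfsg.Geo Matrix

universe u

variable {F : Type u} [Field F] {m : ℕ}

/-! ### The standard alternating form -/

/-- `sympForm` as a bilinear map. -/
noncomputable def sympB (m : ℕ) (F : Type u) [Field F] :
    (Fin m ⊕ Fin m → F) →ₗ[F] (Fin m ⊕ Fin m → F) →ₗ[F] F :=
  Matrix.toLinearMap₂' F (Matrix.J (Fin m) F)

theorem sympB_apply (u v : Fin m ⊕ Fin m → F) : sympB m F u v = sympForm m F u v := by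
  rw [sympB, Matrix.toLinearMap₂'_apply']
  rfl

theorem symp_explicit (u v : Fin m ⊕ Fin m → F) :
    sympForm m F u v = ∑ i, (u (.inr i) * v (.inl i) - u (.inl i) * v (.inr i)) := by
  unfold sympForm Matrix.J
  rw [dotProduct, Fintype.sum_sum_type, Finset.sum_sub_distrib]
  simp [Matrix.mulVec, dotProduct, Fintype.sum_sum_type, Matrix.fromBlocks, Matrix.one_apply]
  ring

theorem symp_self (v : Fin m ⊕ Fin m → F) : sympForm m F v v = 0 := by
  rw [symp_explicit]
  exact Finset.sum_eq_zero (fun i _ => by ring)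

theorem symp_skew (u v : Fin m ⊕ Fin m → F) : sympForm m F u v = - sympForm m F v u := by
  rw [symp_explicit, symp_explicit, ← Finset.sum_neg_distrib]
  exact Finset.sum_congr rfl (fun i _ => by ring)

theorem mem_spGL_iff (g : GL (Fin m ⊕ Fin m) F) :
    g ∈ spGL m F ↔ ∀ u v : Fin m ⊕ Fin m → F,
      sympForm m F ((g : Matrix (Fin m ⊕ Fin m) (Fin m ⊕ Fin m) F) *ᵥ u)
        ((g : Matrix (Fin m ⊕ Fin m) (Fin m ⊕ Fin m) F) *ᵥ v) = sympForm m F u v := Iff.rfl

/-! ### Symplectic transvections -/

/-- The symplectic transvection `x ↦ x + c f(x,u) u`. -/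
noncomputable def stLin (u : Fin m ⊕ Fin m → F) (c : F) :
    (Fin m ⊕ Fin m → F) →ₗ[F] (Fin m ⊕ Fin m → F) :=
  LinearMap.id + ((c • (sympB m F).flip u).smulRight u)

theorem stLin_apply (u : Fin m ⊕ Fin m → F) (c : F) (x : Fin m ⊕ Fin m → F) :
    stLin u c x = x + (c * sympForm m F x u) • u := by
  simp [stLin, sympB_apply]

theorem stLin_comp (u : Fin m ⊕ Fin m → F) (c d : F) (x : Fin m ⊕ Fin m → F) :
    stLin u c (stLin u d x) = stLin u (c + d) x := by
  simp only [stLin_apply, ← sympB_apply, map_add, map_smul, LinearMap.add_apply, LinearMap.smul_apply,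
    smul_eq_mul]
  rw [sympB_apply u u, symp_self]
  module

theorem stLin_zero (u : Fin m ⊕ Fin m → F) (x : Fin m ⊕ Fin m → F) : stLin u 0 x = x := by
  simp [stLin_apply]

/-- The symplectic transvection as an element of `GL`. -/
noncomputable def stGL (u : Fin m ⊕ Fin m → F) (c : F) : GL (Fin m ⊕ Fin m) F :=
  ⟨LinearMap.toMatrix' (stLin u c), LinearMap.toMatrix' (stLin u (-c)),
    by
      rw [← LinearMap.toMatrix'_comp]
      have : stLin u c ∘ₗ stLin u (-c) = LinearMap.id :=
        LinearMap.ext (fun x => by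
          rw [LinearMap.comp_apply, stLin_comp, add_neg_cancel, stLin_zero]; rfl)
      rw [this, LinearMap.toMatrix'_id],
    by
      rw [← LinearMap.toMatrix'_comp]
      have : stLin u (-c) ∘ₗ stLin u c = LinearMap.id :=
        LinearMap.ext (fun x => by
          rw [LinearMap.comp_apply, stLin_comp, neg_add_cancel, stLin_zero]; rfl)
      rw [this, LinearMap.toMatrix'_id]⟩

theorem stGL_mulVec (u : Fin m ⊕ Fin m → F) (c : F) (x : Fin m ⊕ Fin m → F) :
    ((stGL u c : GL (Fin m ⊕ Fin m) F) : Matrix (Fin m ⊕ Fin m) (Fin m ⊕ Fin m) F) *ᵥ x =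
      x + (c * sympForm m F x u) • u := by
  rw [← stLin_apply]
  exact LinearMap.toMatrix'_mulVec _ _

theorem stGL_mem (u : Fin m ⊕ Fin m → F) (c : F) : stGL u c ∈ spGL m F := by
  rw [mem_spGL_iff]
  intro x y
  rw [stGL_mulVec, stGL_mulVec]
  simp only [← sympB_apply, map_add, map_smul, LinearMap.add_apply, LinearMap.smul_apply, smul_eq_mul]
  rw [sympB_apply u u, symp_self, sympB_apply u y, symp_skew u y, sympB_apply x u, sympB_apply y u]
  ring

/-- A non-degenerate two-dimensional subspace has a basis `a, b` with `f(a,b) = 1`. -/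
theorem exists_symp_pair (W : Submodule F (Fin m ⊕ Fin m → F)) (hdim : Module.finrank F W = 2)
    (hnd : IsNondegenerateOn (sympForm m F) W) :
    ∃ a b : Fin m ⊕ Fin m → F, a ∈ W ∧ b ∈ W ∧ sympForm m F a b = 1 ∧ W = Submodule.span F {a, b} := by
  have hWne : W ≠ ⊥ := by
    intro hbot
    rw [hbot] at hdim
    simp at hdim
  obtain ⟨a, haW, ha0⟩ := Submodule.exists_mem_ne_zero_of_ne_bot hWne
  obtain ⟨-, ⟨x, hxW, hx⟩⟩ := hnd a haW ha0
  obtain ⟨b, hbW, hab⟩ : ∃ b ∈ W, sympForm m F a b = 1 :=
    ⟨(sympForm m F a x)⁻¹ • x, W.smul_mem _ hxW, by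
      rw [← sympB_apply, map_smul, smul_eq_mul, sympB_apply, inv_mul_cancel₀ hx]⟩
  refine ⟨a, b, haW, hbW, hab, ?_⟩
  have hli : LinearIndependent F ![a, b] := by
    rw [LinearIndependent.pair_iff]
    intro s t hst
    have h1 := congrArg (fun v => sympB m F a v) hst
    simp only [map_add, map_smul, map_zero, smul_eq_mul, sympB_apply, symp_self, hab] at h1
    have ht : t = 0 := by simpa using h1
    subst ht
    simp only [zero_smul, add_zero, smul_eq_zero] at hst
    exact ⟨hst.resolve_right ha0, rfl⟩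
  symm
  apply Submodule.eq_of_le_of_finrank_eq
  · rw [Submodule.span_le]
    intro v hv
    rcases hv with rfl | rfl
    exacts [haW, hbW]
  · rw [hdim]
    have := finrank_span_eq_card hli
    rw [Matrix.range_cons_cons_empty] at this
    simpa using this

/-- The number of members of an `m`-decomposition: `|ι| = t * k`. -/
theorem card_eq_of_decomposition {ι : Type} [Fintype ι] [DecidableEq ι] {t k : ℕ}
    (D : Fin t → Submodule F (ι → F)) (hdec : IsMDecomposition k D) : Fintype.card ι = t * k := by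
  classical
  have hint := DirectSum.isInternal_submodule_of_iSupIndep_of_iSup_eq_top hdec.indep hdec.iSup_eq_top
  have e := LinearEquiv.ofBijective (DirectSum.coeLinearMap D) hint
  have h1 := e.finrank_eq
  rw [Module.finrank_directSum] at h1
  simp only [hdec.finrank_eq, Finset.sum_const, Finset.card_univ, Fintype.card_fin, smul_eq_mul,
    Module.finrank_fintype_fun_eq_card] at h1
  exact h1.symm

end Cfsg.Agent.Helper94
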